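import Cfsg.Agent.Lib.Chars.TwoDegrees
import Cfsg.Agent.Lib.KGV.Basic
import Cfsg.Agent.S0169
import Cfsg.Agent.S0179

/-!
# Groups whose irreducible degrees are `1` and a prime `p`
-/

set_option autoImplicit false

namespace Cfsg.Agent.Lib.Chars

open scoped commutatorElement

universe u

variable {G : Type u} [Group G]

/-- In a finite abelian subgroup a proper subgroup is killed by a character moving a given
outside element. -/
theorem exists_hom_separating [Finite G] (A : Subgroup G) (hA : ∀ a ∈ A, ∀ b ∈ A, a * b = b * a)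
    (S : Subgroup A) (c : A) (hc : c ∉ S) : ∃ l : A →* ℂˣ, (∀ s ∈ S, l s = 1) ∧ l c ≠ 1 := by
  let : CommGroup A := { (inferInstance : Group A) with
    mul_comm := fun a b => Subtype.ext (hA a a.2 b b.2) }
  have hne : (QuotientGroup.mk' S c) ≠ 1 := fun h => hc ((QuotientGroup.eq_one_iff c).mp h)
  obtain ⟨φ, hφ⟩ := CommGroup.exists_apply_ne_one_of_hasEnoughRootsOfUnity (A ⧸ S) ℂ hne
  refine ⟨φ.comp (QuotientGroup.mk' S), fun s hs => ?_, hφ⟩
  show φ (QuotientGroup.mk' S s) = 1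
  rw [show QuotientGroup.mk' S s = 1 from (QuotientGroup.eq_one_iff s).mpr hs, map_one]

/-- The stabiliser of a linear character of an abelian normal subgroup. -/
def linStab (A : Subgroup G) [A.Normal] (l : A →* ℂˣ) : Subgroup G where
  carrier := {g | l.comp (MulAut.conjNormal g).toMonoidHom = l}
  one_mem' := MonoidHom.ext fun k => by simp
  mul_mem' := fun {a b} ha hb => MonoidHom.ext fun k => by
    show l (MulAut.conjNormal (a * b) k) = l k
    rw [map_mul, MulAut.mul_apply]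
    exact (DFunLike.congr_fun ha (MulAut.conjNormal b k)).trans (DFunLike.congr_fun hb k)
  inv_mem' := fun {a} ha => MonoidHom.ext fun k => by
    show l (MulAut.conjNormal a⁻¹ k) = l k
    have := DFunLike.congr_fun ha (MulAut.conjNormal a⁻¹ k)
    simp only [MonoidHom.comp_apply, MulEquiv.coe_toMonoidHom, ← MulAut.mul_apply, ← map_mul,
      mul_inv_cancel, map_one, MulAut.one_apply] at this
    exact this.symm

theorem mem_linStab {A : Subgroup G} [A.Normal] {l : A →* ℂˣ} {g : G} :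
    g ∈ linStab A l ↔ ∀ k : A, l (MulAut.conjNormal g k) = l k :=
  ⟨fun h k => DFunLike.congr_fun h k, fun h => MonoidHom.ext h⟩

theorem le_linStab {A : Subgroup G} [A.Normal] (hA : ∀ a ∈ A, ∀ b ∈ A, a * b = b * a)
    (l : A →* ℂˣ) : A ≤ linStab A l := fun a ha => mem_linStab.mpr fun k => congrArg l
  (Subtype.ext (by rw [MulAut.conjNormal_apply, hA a ha k k.2, mul_inv_cancel_right]))

/-- A moved linear character of an abelian normal subgroup has stabiliser of index `p`, whose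
commutators it kills. -/
theorem linStab_facts [Finite G] {p : ℕ} (hp : p.Prime) (h : DegreesOneOr p G) (A : Subgroup G)
    [A.Normal] (hA : ∀ a ∈ A, ∀ b ∈ A, a * b = b * a) (hc : commutator G ≤ A) (l : A →* ℂˣ)
    (hl : linStab A l ≠ ⊤) :
    (linStab A l).index = p ∧ ∀ x ∈ linStab A l, ∀ y ∈ linStab A l,
      l ⟨⁅x, y⁆, hc (Subgroup.commutator_mem_commutator (Subgroup.mem_top x) (Subgroup.mem_top y))⟩
        = 1 := by
  classical
  cases nonempty_fintype G
  set T := linStab A l with hT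
  have hAT : A ≤ T := le_linStab hA l
  have : T.Normal := ⟨fun t ht g => by
    have h1 : ⁅g, t⁆ ∈ T :=
      hAT (hc (Subgroup.commutator_mem_commutator (Subgroup.mem_top g) (Subgroup.mem_top t)))
    have : g * t * g⁻¹ = ⁅g, t⁆ * t := by simp [commutatorElement_def, mul_assoc]
    rw [this]; exact T.mul_mem h1 ht⟩
  have := Fintype.ofFinite T
  have := Fintype.ofFinite A
  have hTmem : ∀ g, g ∈ T ↔ Clifford.conjFun g (fun k : A => ((l k : ℂˣ) : ℂ))
      = fun k : A => ((l k : ℂˣ) : ℂ) := by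
    intro g
    rw [hT, mem_linStab]
    exact ⟨fun hg => funext fun k => congrArg Units.val (hg k),
      fun hg k => Units.ext (congrFun hg k)⟩
  have key : ∀ ψ : IrrCharacter T,
      classInner (Clifford.resTo hAT (ψ : T → ℂ)) (fun k : A => ((l k : ℂˣ) : ℂ)) ≠ 0 →
        (T.index : ℂ) * (ψ : T → ℂ) 1 = p := by
    intro ψ hψ
    have hirr := Clifford.isIrrCharacter_indFun_inertia (isIrrCharacter_of_hom l) hTmem hAT ψ.2 hψ
    rcases degree_eq_of h ⟨_, hirr⟩ with h1 | h1
    · exfalso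
      obtain ⟨d, hd0, hd⟩ := isIrrCharacter_exists_degree_pos ψ.2
      rw [show ((⟨_, hirr⟩ : IrrCharacter G) : G → ℂ) 1 = (indFun T (ψ : T → ℂ)) 1 from rfl,
        indFun_one_eq, hd, ← Nat.cast_mul, Nat.cast_eq_one, mul_eq_one] at h1
      exact hl (Subgroup.index_eq_one.mp h1.1)
    · rw [← indFun_one_eq]; exact h1
  have : Fintype (A.subgroupOf T) := Fintype.ofFinite _
  obtain ⟨ψ, hψ⟩ : ∃ ψ : IrrCharacter T,
      classInner (Clifford.resTo hAT (ψ : T → ℂ)) (fun k : A => ((l k : ℂˣ) : ℂ)) ≠ 0 := by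
    let lT : A.subgroupOf T →* ℂˣ := l.comp (Subgroup.subgroupOfEquivOfLe hAT).toMonoidHom
    by_contra! h0
    have hz : ∀ ψ : IrrCharacter T,
        classInner (indFun (A.subgroupOf T) (fun k => ((lT k : ℂˣ) : ℂ))) (ψ : T → ℂ) = 0 := by
      intro ψ
      rw [classInner_indFun_left _ _ _ (irr_isClassFunction ψ), ← conj_classInner]
      have h1 := h0 ψ
      have e : classInner (fun k : A.subgroupOf T => (ψ : T → ℂ) k) (fun k => ((lT k : ℂˣ) : ℂ))
          = classInner (Clifford.resTo hAT (ψ : T → ℂ)) (fun k : A => ((l k : ℂˣ) : ℂ)) :=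
        Clifford.classInner_comp_equiv (Subgroup.subgroupOfEquivOfLe hAT)
          (Clifford.resTo hAT (ψ : T → ℂ)) (fun k : A => ((l k : ℂˣ) : ℂ))
      rw [e, h1, map_zero]
    have h2 := congrFun (isClassFunction_eq_sum_classInner
      (isClassFunction_indFun (A.subgroupOf T) (fun k => ((lT k : ℂˣ) : ℂ)))) 1
    simp [hz, indFun_one_eq, Subgroup.index_ne_zero_of_finite] at h2
  have hidx : T.index = p := by
    obtain ⟨d, -, hd⟩ := isIrrCharacter_exists_degree_pos ψ.2
    have := key ψ hψ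
    rw [hd, ← Nat.cast_mul, Nat.cast_inj] at this
    rcases (Nat.dvd_prime hp).mp (Dvd.intro _ this) with h1 | h1
    · exact absurd (Subgroup.index_eq_one.mp h1) hl
    · exact h1
  refine ⟨hidx, fun x hx y hy => ?_⟩
  set c : A := ⟨⁅x, y⁆, hc (Subgroup.commutator_mem_commutator (Subgroup.mem_top x)
    (Subgroup.mem_top y))⟩
  by_contra hlc
  refine hψ ?_
  have hlin : (ψ : T → ℂ) 1 = 1 := by
    have := key ψ hψ
    rw [hidx] at this
    exact (mul_eq_left₀ (Nat.cast_ne_zero.mpr hp.ne_zero)).mp this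
  -- a linear character of `T` restricts to a linear character of `A` killing `c`
  obtain ⟨f, hf⟩ := exists_hom_of_degree_one (irr_isCharacter ψ) hlin
  have hres : Clifford.resTo hAT (ψ : T → ℂ)
      = (linIrr (f.comp (Subgroup.inclusion hAT)) : A → ℂ) := by
    funext k; rw [Clifford.resTo, hf]; rfl
  rw [hres]
  refine classInner_irr_of_ne (ψ := linIrr l) fun he => hlc ?_
  rw [← linIrr_injective he]
  show f ⟨⁅x, y⁆, _⟩ = 1
  have : (⟨⁅x, y⁆, hAT c.2⟩ : T) = ⁅(⟨x, hx⟩ : T), ⟨y, hy⟩⁆ := Subtype.ext rfl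
  rw [this, map_commutatorElement]
  exact commutatorElement_eq_one_iff_mul_comm.mpr (mul_comm _ _)

/-- A subgroup generated by two commuting elements killed by `p` has at most `p ^ 2` elements. -/
theorem card_closure_pair_le {Q : Type u} [CommGroup Q] {p : ℕ} (hp : 0 < p) {a b : Q}
    (ha : a ^ p = 1) (hb : b ^ p = 1) :
    Nat.card (Subgroup.closure ({a, b} : Set Q)) ≤ p ^ 2 := by
  let f : Fin p × Fin p → Subgroup.closure ({a, b} : Set Q) := fun ij =>
    ⟨a ^ (ij.1 : ℕ) * b ^ (ij.2 : ℕ), Subgroup.mul_mem _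
      (Subgroup.pow_mem _ (Subgroup.subset_closure (by simp)) _)
      (Subgroup.pow_mem _ (Subgroup.subset_closure (by simp)) _)⟩
  have hmod : ∀ u : Q, u ^ p = 1 → ∀ i : ℤ, ∃ j : Fin p, u ^ (j : ℕ) = u ^ i := by
    intro u hu i
    have hpos : (0 : ℤ) < (p : ℤ) := by exact_mod_cast hp
    have hnn := Int.emod_nonneg i hpos.ne'
    have hlt := Int.emod_lt_of_pos i hpos
    refine ⟨⟨(i % (p : ℤ)).toNat, by omega⟩, ?_⟩
    show u ^ (i % (p : ℤ)).toNat = u ^ i
    rw [← zpow_natCast, Int.toNat_of_nonneg hnn]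
    conv_rhs => rw [← Int.mul_ediv_add_emod i p, zpow_add, zpow_mul, zpow_natCast, hu, one_zpow,
      one_mul]
  have hf : Function.Surjective f := by
    rintro ⟨v, hv⟩
    obtain ⟨m, n, rfl⟩ := Subgroup.mem_closure_pair.mp hv
    obtain ⟨j, hj⟩ := hmod a ha m
    obtain ⟨k, hk⟩ := hmod b hb n
    exact ⟨(j, k), Subtype.ext (congrArg₂ (· * ·) hj hk)⟩
  refine (Nat.card_le_card_of_surjective f hf).trans (le_of_eq ?_)
  rw [Nat.card_prod, Nat.card_fin, pow_two]

theorem dvd_of_zpow_mem {Q : Type u} [Group Q] {p : ℕ} (hp : p.Prime) {u : Q} (hu : u ^ p = 1)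
    {H : Subgroup Q} {j : ℤ} (hj : u ^ j ∈ H) (hn : u ∉ H) : (p : ℤ) ∣ j := by
  by_contra hnd
  obtain ⟨m, n, hmn⟩ := (Prime.coprime_iff_not_dvd (Nat.prime_iff_prime_int.mp hp)).mpr hnd
  refine hn ?_
  have he : u = (u ^ j) ^ n := by
    conv_lhs => rw [← zpow_one u, ← hmn, zpow_add, mul_comm m, zpow_mul, zpow_natCast, hu,
      one_zpow, one_mul, mul_comm n, zpow_mul]
  rw [he]
  exact H.zpow_mem hj n

/-- A homomorphism which is pointwise a power of one with non-cyclic image is uniformly one. -/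
theorem exists_uniform_power {Q : Type u} [CommGroup Q] {p : ℕ} (hp : p.Prime) (f v : G →* Q)
    (hv : ∀ z, v z ^ p = 1) (hf : ∀ z, f z ∈ Subgroup.zpowers (v z))
    (hbig : ∀ z₁, ∃ g, v g ∉ Subgroup.zpowers (v z₁)) : ∃ c : ℤ, ∀ z, f z = v z ^ c := by
  obtain ⟨z₁, hz₁⟩ := hbig 1
  have hne : v z₁ ≠ 1 := fun h1 => hz₁ (h1 ▸ Subgroup.one_mem _)
  obtain ⟨c, hc⟩ := Subgroup.mem_zpowers_iff.mp (hf z₁)
  refine ⟨c, ?_⟩
  have hout : ∀ z, v z ∉ Subgroup.zpowers (v z₁) → f z = v z ^ c := by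
    intro z hz
    obtain ⟨d, hd⟩ := Subgroup.mem_zpowers_iff.mp (hf z)
    obtain ⟨e, he⟩ := Subgroup.mem_zpowers_iff.mp (hf (z₁ * z))
    rw [map_mul, map_mul, mul_zpow, ← hc, ← hd] at he
    have h1 : v z ^ (d - e) = v z₁ ^ (e - c) := by
      rw [zpow_sub, zpow_sub, ← div_eq_mul_inv, ← div_eq_mul_inv, div_eq_div_iff_mul_eq_mul, he,
        mul_comm]
    obtain ⟨i, hi⟩ := dvd_of_zpow_mem hp (hv z) (h1 ▸ ⟨e - c, rfl⟩ :
      v z ^ (d - e) ∈ Subgroup.zpowers (v z₁)) hz
    have h2 : v z ^ (d - e) = 1 := by rw [hi, zpow_mul, zpow_natCast, hv, one_zpow]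
    obtain ⟨j, hj⟩ := dvd_of_zpow_mem (H := (⊥ : Subgroup Q)) hp (hv z₁)
      (Subgroup.mem_bot.mpr (h1.symm.trans h2)) (fun hm => hne (Subgroup.mem_bot.mp hm))
    have h3 : v z ^ (e - c) = 1 := by rw [hj, zpow_mul, zpow_natCast, hv, one_zpow]
    rw [← hd, show d = (d - e) + (e - c) + c by ring, zpow_add, zpow_add, h2, h3, one_mul, one_mul]
  intro z
  by_cases hz : v z ∈ Subgroup.zpowers (v z₁)
  · obtain ⟨g, hg⟩ := hbig z₁
    have hzg : v (z * g) ∉ Subgroup.zpowers (v z₁) := by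
      rw [map_mul]
      exact fun hmem => hg ((Subgroup.mul_mem_cancel_left _ hz).mp hmem)
    have h1 := hout _ hzg
    rw [map_mul, map_mul, mul_zpow, ← hout _ hg] at h1
    exact mul_right_cancel h1
  · exact hout z hz

/-- `exists_uniform_power` modulo the powers of one element. -/
theorem exists_uniform_power_mod {Q : Type u} [CommGroup Q] {p : ℕ} (hp : p.Prime) (f v : G →* Q)
    (hv : ∀ z, v z ^ p = 1) (q : Q) (hf : ∀ z, f z ∈ Subgroup.closure {q, v z})
    (hbig : ∀ z₁, ∃ g, v g ∉ Subgroup.closure {q, v z₁}) :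
    ∃ c : ℤ, ∀ z, f z * (v z ^ c)⁻¹ ∈ Subgroup.zpowers q := by
  set π := QuotientGroup.mk' (Subgroup.zpowers q) with hπ
  have hπq : π q = 1 := (QuotientGroup.eq_one_iff q).mpr (Subgroup.mem_zpowers q)
  obtain ⟨c, hc⟩ := exists_uniform_power hp (π.comp f) (π.comp v)
    (fun z => by rw [MonoidHom.comp_apply, ← map_pow, hv, map_one])
    (fun z => by
      obtain ⟨m, n, hmn⟩ := Subgroup.mem_closure_pair.mp (hf z)
      refine ⟨n, ?_⟩
      show π (v z) ^ n = π (f z)
      rw [← hmn, map_mul, map_zpow, map_zpow, hπq, one_zpow, one_mul])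
    (fun z₁ => by
      obtain ⟨g, hg⟩ := hbig z₁
      refine ⟨g, fun hmem => hg ?_⟩
      obtain ⟨i, hi⟩ := Subgroup.mem_zpowers_iff.mp hmem
      have h1 : v g * (v z₁ ^ i)⁻¹ ∈ Subgroup.zpowers q := by
        rw [← QuotientGroup.eq_one_iff]
        show π (v g * (v z₁ ^ i)⁻¹) = 1
        rw [map_mul, map_inv, map_zpow, mul_inv_eq_one]
        exact hi.symm
      obtain ⟨k, hk⟩ := Subgroup.mem_zpowers_iff.mp h1
      exact Subgroup.mem_closure_pair.mpr ⟨k, i, by rw [hk, inv_mul_cancel_right]⟩)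
  refine ⟨c, fun z => ?_⟩
  rw [← QuotientGroup.eq_one_iff]
  show π (f z * (v z ^ c)⁻¹) = 1
  rw [map_mul, map_inv, map_zpow, mul_inv_eq_one]
  exact hc z

/-- The centre as a commutative group. -/
@[reducible] def centerCommGroup (G : Type u) [Group G] : CommGroup (Subgroup.center G) :=
  { (inferInstance : Group (Subgroup.center G)) with
    mul_comm := fun a b => Subtype.ext (Subgroup.mem_center_iff.mp b.2 a) }

set_option maxHeartbeats 1000000 in
/-- The data of a maximal abelian subgroup above the derived subgroup: it is the product of the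
centre and the powers of one element `a`, commutation with which is central. -/
theorem exists_center_data [Finite G] {p : ℕ} [hp : Fact p.Prime]
    (h : DegreesOneOr p G) (hna : ∃ a b : G, a * b ≠ b * a)
    (hcomm : ∀ a ∈ commutator G, ∀ b ∈ commutator G, a * b = b * a) :
    (∃ A : Subgroup G, A.Normal ∧ (∀ a ∈ A, ∀ b ∈ A, a * b = b * a) ∧ A.index = p) ∨
      ∃ (A : Subgroup G) (a : A), A.Normal ∧ (∀ a ∈ A, ∀ b ∈ A, a * b = b * a) ∧ commutator G ≤ A ∧
        (∀ y : G, (∀ a ∈ A, a * y = y * a) → y ∈ A) ∧ A.index ≠ p ∧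
        Subgroup.center G ≤ A ∧ (Subgroup.center G).relIndex A = p ∧
        (a : G) ^ p ∈ Subgroup.center G ∧
        (∀ b : A, ∃ (i : ℤ) (z : G), z ∈ Subgroup.center G ∧ (b : G) = (a : G) ^ i * z) ∧
        ∀ g : G, ⁅g, (a : G)⁆ ∈ Subgroup.center G := by
  classical
  cases nonempty_fintype G
  obtain ⟨A, ⟨hcA, hAab⟩, hAmax⟩ := (Set.toFinite {A : Subgroup G |
    commutator G ≤ A ∧ ∀ a ∈ A, ∀ b ∈ A, a * b = b * a}).exists_maximal
      ⟨commutator G, le_rfl, hcomm⟩
  have hnorm : ∀ B : Subgroup G, commutator G ≤ B → B.Normal := fun B hB => ⟨fun b hb g => by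
    have h1 : ⁅g, b⁆ ∈ B :=
      hB (Subgroup.commutator_mem_commutator (Subgroup.mem_top g) (Subgroup.mem_top b))
    have : g * b * g⁻¹ = ⁅g, b⁆ * b := by simp [commutatorElement_def, mul_assoc]
    rw [this]; exact B.mul_mem h1 hb⟩
  have hAn : A.Normal := hnorm A hcA
  have hCA : ∀ y : G, (∀ a ∈ A, a * y = y * a) → y ∈ A := by
    intro y hy
    have hle : ∀ u ∈ A ⊔ Subgroup.zpowers y, ∀ v ∈ A ⊔ Subgroup.zpowers y, u * v = v * u := by
      intro u hu v hv
      obtain ⟨a, ha, s, hs, rfl⟩ := Subgroup.mem_sup_of_normal_left.mp hu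
      obtain ⟨b, hb, t, ht, rfl⟩ := Subgroup.mem_sup_of_normal_left.mp hv
      obtain ⟨i, rfl⟩ := Subgroup.mem_zpowers_iff.mp hs
      obtain ⟨j, rfl⟩ := Subgroup.mem_zpowers_iff.mp ht
      have c1 : Commute a b := hAab a ha b hb
      have c2 : Commute a (y ^ j) := Commute.zpow_right (hy a ha) j
      have c3 : Commute (y ^ i) b := (Commute.zpow_right (hy b hb) i).symm
      exact ((c1.mul_right c2).mul_left (c3.mul_right ((Commute.refl y).zpow_zpow i j))).eq
    exact hAmax ⟨le_sup_of_le_left hcA, hle⟩ le_sup_left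
      (Subgroup.mem_sup_right (Subgroup.mem_zpowers y))
  by_cases hidxp : A.index = p
  · exact Or.inl ⟨A, hAn, hAab, hidxp⟩
  have hcm : ∀ x y : G, ⁅x, y⁆ ∈ A := fun x y =>
    hcA (Subgroup.commutator_mem_commutator (Subgroup.mem_top x) (Subgroup.mem_top y))
  -- displacements
  let δ : (A →* ℂˣ) → G → (A →* ℂˣ) := fun l g => l.comp (MulAut.conjNormal g).toMonoidHom / l
  have hδ : ∀ l g k, δ l g k = l (MulAut.conjNormal g k) / l k := fun _ _ _ => rfl
  have hδ1 : ∀ l g, δ l g = 1 ↔ g ∈ linStab A l := fun l g =>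
    ⟨fun hh => mem_linStab.mpr fun k => by
      have := DFunLike.congr_fun hh k; rwa [hδ, MonoidHom.one_apply, div_eq_one] at this,
    fun hh => MonoidHom.ext fun k => by
      rw [hδ, MonoidHom.one_apply, div_eq_one, mem_linStab.mp hh k]⟩
  have hδmul : ∀ l g g' k, δ l (g * g') k = δ l g (MulAut.conjNormal g' k) * δ l g' k := by
    intro l g g' k
    rw [hδ, hδ, hδ, map_mul, MulAut.mul_apply, div_mul_div_cancel]
  have hδinv : ∀ l (g : G) (t : G), t ∈ linStab A l → ∀ k,
      δ l g (MulAut.conjNormal t k) = δ l g k := by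
    intro l g t ht k
    have hn : (linStab A l).Normal := hnorm _ (hcA.trans (le_linStab hAab l))
    have h1 := hδmul l g t k
    rw [show δ l t = 1 from (hδ1 l t).mpr ht, MonoidHom.one_apply, mul_one] at h1
    rw [← h1]
    have h2 := hδmul l (g * t * g⁻¹) g k
    rw [show δ l (g * t * g⁻¹) = 1 from (hδ1 l _).mpr (hn.conj_mem t ht g), MonoidHom.one_apply,
      one_mul, inv_mul_cancel_right] at h2
    exact h2
  have hmoved : ∃ l : A →* ℂˣ, linStab A l ≠ ⊤ := by
    by_contra! hall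
    obtain ⟨a, b, hab⟩ := hna
    have hcent : ∀ g : G, ∀ k ∈ A, k * g = g * k := by
      intro g k hk
      by_contra hne
      let : CommGroup A := { (inferInstance : Group A) with
        mul_comm := fun a b => Subtype.ext (hAab a a.2 b b.2) }
      obtain ⟨l, hl⟩ := CommGroup.exists_apply_ne_one_of_hasEnoughRootsOfUnity A ℂ
        (a := MulAut.conjNormal g (⟨k, hk⟩ : A) * (⟨k, hk⟩ : A)⁻¹) (fun he => hne (by
          have := congrArg Subtype.val (mul_inv_eq_one.mp he)
          rw [MulAut.conjNormal_apply, mul_inv_eq_iff_eq_mul] at this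
          exact this.symm))
      refine hl ?_
      rw [map_mul, mem_linStab.mp (hall l ▸ Subgroup.mem_top g), map_inv, mul_inv_cancel]
    exact hab (hAab a (hCA a fun k hk => hcent a k hk) b (hCA b fun k hk => hcent b k hk))
  -- pairs with different stabilisers
  have hother : ∀ l, linStab A l ≠ ⊤ →
      ∃ n, linStab A n ≠ ⊤ ∧ linStab A n ≠ linStab A l := by
    intro l hl
    by_contra! hall
    refine hidxp ?_
    have hle : linStab A l ≤ A := fun t ht => hCA t fun k hk => by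
      by_contra hne
      let : CommGroup A := { (inferInstance : Group A) with
        mul_comm := fun a b => Subtype.ext (hAab a a.2 b b.2) }
      obtain ⟨n, hn⟩ := CommGroup.exists_apply_ne_one_of_hasEnoughRootsOfUnity A ℂ
        (a := MulAut.conjNormal t (⟨k, hk⟩ : A) * (⟨k, hk⟩ : A)⁻¹) (fun he => hne (by
          have := congrArg Subtype.val (mul_inv_eq_one.mp he)
          rw [MulAut.conjNormal_apply, mul_inv_eq_iff_eq_mul] at this
          exact this.symm))
      refine hn ?_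
      have htn : t ∈ linStab A n := by
        by_cases hn' : linStab A n = ⊤
        · rw [hn']; trivial
        · rw [hall n hn']; exact ht
      rw [map_mul, mem_linStab.mp htn, map_inv, mul_inv_cancel]
    rw [← (linStab_facts hp.out h A hAab hcA l hl).1,
      le_antisymm hle (le_linStab hAab l)]
  have hpair : ∀ l n, linStab A l ≠ ⊤ → linStab A n ≠ ⊤ → linStab A n ≠ linStab A l →
      ∀ q ∈ linStab A n, (∀ t k, δ l q (MulAut.conjNormal t k) = δ l q k) ∧
        ∃ r ∈ linStab A l, δ l q = (δ n r)⁻¹ := by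
    intro l n hl hn hne q hq
    obtain ⟨hTi, -⟩ := linStab_facts hp.out h A hAab hcA l hl
    obtain ⟨hSi, -⟩ := linStab_facts hp.out h A hAab hcA n hn
    set T := linStab A l with hT
    set S := linStab A n with hS
    have hTn : T.Normal := hnorm T (hcA.trans (le_linStab hAab l))
    obtain ⟨r₀, hr₀, hr₀S⟩ : ∃ r ∈ T, r ∉ S := by
      by_contra! hsub
      exact hne (Subgroup.eq_of_le_of_card_ge hsub (Nat.le_of_mul_le_mul_right
        (by rw [← hTi, T.card_mul_index, hTi, ← hSi, S.card_mul_index]) hp.out.pos)).symm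
    have hST : S ⊔ T = ⊤ := by
      rw [← Subgroup.index_eq_one]
      have h1 := Subgroup.index_dvd_of_le (le_sup_right : T ≤ S ⊔ T)
      rw [hTi, Nat.dvd_prime hp.out] at h1
      refine h1.resolve_right fun h2 => hne ?_
      have e1 : T = S ⊔ T := Subgroup.eq_of_le_of_card_ge le_sup_right
        (Nat.le_of_mul_le_mul_right (by rw [← hTi, T.card_mul_index, hTi, ← h2,
          (S ⊔ T).card_mul_index]) hp.out.pos)
      exact Subgroup.eq_of_le_of_card_ge (e1 ▸ le_sup_left)
        (Nat.le_of_mul_le_mul_right (by rw [← hSi, S.card_mul_index, hSi, ← hTi,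
          T.card_mul_index]) hp.out.pos)
    set U := linStab A (l * n) with hU
    have hδln : ∀ g k, δ (l * n) g k = δ l g k * δ n g k := fun g k => by
      rw [hδ, hδ, hδ, MonoidHom.mul_apply, MonoidHom.mul_apply, div_mul_div_comm]
    have hrU : r₀ ∉ U := fun hmem => hr₀S ((hδ1 n r₀).mp (MonoidHom.ext fun k => by
      have := hδln r₀ k
      rw [(hδ1 _ _).mpr hmem, (hδ1 l r₀).mpr hr₀, MonoidHom.one_apply, one_mul] at this
      exact this.symm))
    obtain ⟨hUi, -⟩ := linStab_facts hp.out h A hAab hcA (l * n) fun htop =>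
      hrU (show r₀ ∈ linStab A (l * n) from htop.symm ▸ Subgroup.mem_top r₀)
    have hUn : U.Normal := hnorm U (hcA.trans (le_linStab hAab _))
    obtain ⟨j, hj⟩ : ∃ j : ℤ, r₀ ^ j * q ∈ U := by
      have hcard : Nat.card (G ⧸ U) = p := by rw [← Subgroup.index_eq_card, hUi]
      have hgen : Subgroup.zpowers (r₀ : G ⧸ U) = ⊤ :=
        zpowers_eq_top_of_prime_card hcard (fun h1 => hrU ((QuotientGroup.eq_one_iff _).mp h1))
      obtain ⟨j, hj⟩ := Subgroup.mem_zpowers_iff.mp
        (hgen ▸ Subgroup.mem_top ((q : G ⧸ U)⁻¹) : (q : G ⧸ U)⁻¹ ∈ Subgroup.zpowers (r₀ : G ⧸ U))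
      refine ⟨j, (QuotientGroup.eq_one_iff _).mp ?_⟩
      rw [QuotientGroup.mk_mul, QuotientGroup.mk_zpow, hj, inv_mul_cancel]
    have hr : r₀ ^ j ∈ T := T.zpow_mem hr₀ j
    have heq : ∀ k, δ l q k * δ n (r₀ ^ j) k = 1 := by
      intro k
      have h0 := hδln (r₀ ^ j * q) k
      rw [(hδ1 _ _).mpr hj, hδmul l, hδmul n, (hδ1 l _).mpr hr, (hδ1 n _).mpr hq,
        hδinv n _ q hq] at h0
      simp only [MonoidHom.one_apply, one_mul, mul_one] at h0
      exact h0.symm
    have hval : δ l q = (δ n (r₀ ^ j))⁻¹ :=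
      MonoidHom.ext fun k => eq_inv_of_mul_eq_one_left (heq k)
    refine ⟨fun t k => ?_, r₀ ^ j, hr, hval⟩
    have hmem : t ∈ S ⊔ T := by rw [hST]; trivial
    obtain ⟨s, hs, u, hu, rfl⟩ := Subgroup.mem_sup_of_normal_right.mp hmem
    rw [map_mul, MulAut.mul_apply]
    conv_lhs => rw [hval, MonoidHom.inv_apply, hδinv n _ s hs, ← MonoidHom.inv_apply, ← hval]
    exact hδinv l q u hu k
  have hfix : ∀ l g t k, δ l g (MulAut.conjNormal t k) = δ l g k := by
    intro l g t k
    by_cases hl : linStab A l = ⊤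
    · rw [(hδ1 l g).mpr (hl ▸ Subgroup.mem_top g), MonoidHom.one_apply, MonoidHom.one_apply]
    obtain ⟨n, hn, hne⟩ := hother l hl
    obtain ⟨hTi, -⟩ := linStab_facts hp.out h A hAab hcA l hl
    have hTn : (linStab A l).Normal := hnorm _ (hcA.trans (le_linStab hAab l))
    have hmem : g ∈ linStab A n ⊔ linStab A l := by
      have htop : linStab A n ⊔ linStab A l = ⊤ := by
        rw [← Subgroup.index_eq_one]
        have h1 := Subgroup.index_dvd_of_le (le_sup_right : linStab A l ≤ linStab A n ⊔ linStab A l)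
        rw [hTi, Nat.dvd_prime hp.out] at h1
        refine h1.resolve_right fun h2 => hne ?_
        have e1 : linStab A l = linStab A n ⊔ linStab A l :=
          Subgroup.eq_of_le_of_card_ge le_sup_right (Nat.le_of_mul_le_mul_right (by
            rw [← hTi, (linStab A l).card_mul_index, hTi, ← h2,
              (linStab A n ⊔ linStab A l).card_mul_index]) hp.out.pos)
        obtain ⟨hSi, -⟩ := linStab_facts hp.out h A hAab hcA n hn
        exact Subgroup.eq_of_le_of_card_ge (e1 ▸ le_sup_left) (Nat.le_of_mul_le_mul_right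
          (by rw [← hSi, (linStab A n).card_mul_index, hSi, ← hTi,
            (linStab A l).card_mul_index]) hp.out.pos)
      rw [htop]; trivial
    obtain ⟨q, hq, u, hu, rfl⟩ := Subgroup.mem_sup_of_normal_right.mp hmem
    rw [hδmul, hδmul, (hδ1 l u).mpr hu, MonoidHom.one_apply, MonoidHom.one_apply, mul_one, mul_one,
      ← MulAut.mul_apply, ← map_mul]
    rw [(hpair l n hl hn hne q hq).1, (hpair l n hl hn hne q hq).1]
  have hhom : ∀ l g g', δ l (g * g') = δ l g * δ l g' := fun l g g' => MonoidHom.ext fun k => by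
    rw [hδmul, hfix, MonoidHom.mul_apply]
  let D : (A →* ℂˣ) → G →* (A →* ℂˣ) := fun l => MonoidHom.mk' (δ l) (hhom l)
  have hDker : ∀ l, (D l).ker = linStab A l := fun l => Subgroup.ext fun g => hδ1 l g
  have hrange : ∀ l, linStab A l ≠ ⊤ → Nat.card (D l).range = p := fun l hl => by
    rw [← Subgroup.index_ker, hDker]
    exact (linStab_facts hp.out h A hAab hcA l hl).1
  have hsame : ∀ l n, linStab A l ≠ ⊤ → linStab A n ≠ ⊤ → linStab A n ≠ linStab A l →
      (D l).range = (D n).range := by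
    intro l n hl hn hne
    have : Finite (A →* ℂˣ) := Finite.of_injective _ linIrr_injective
    refine Subgroup.eq_of_le_of_card_ge ?_ (by rw [hrange l hl, hrange n hn])
    rintro _ ⟨g, rfl⟩
    obtain ⟨hTi, -⟩ := linStab_facts hp.out h A hAab hcA l hl
    have hTn : (linStab A l).Normal := hnorm _ (hcA.trans (le_linStab hAab l))
    obtain ⟨q, hq, hql⟩ : ∃ q ∈ linStab A n, q ∉ linStab A l := by
      by_contra! hsub
      obtain ⟨hSi, -⟩ := linStab_facts hp.out h A hAab hcA n hn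
      exact hne (Subgroup.eq_of_le_of_card_ge hsub (Nat.le_of_mul_le_mul_right
        (by rw [← hSi, (linStab A n).card_mul_index, hSi, ← hTi,
          (linStab A l).card_mul_index]) hp.out.pos))
    have hq1 : δ l q ≠ 1 := fun h1 => hql ((hδ1 l q).mp h1)
    obtain ⟨r, -, hr⟩ := (hpair l n hl hn hne q hq).2
    have hgen : Subgroup.zpowers (⟨δ l q, q, rfl⟩ : (D l).range) = ⊤ :=
      zpowers_eq_top_of_prime_card (hrange l hl) fun h1 => hq1 (congrArg Subtype.val h1)
    obtain ⟨i, hi⟩ := Subgroup.mem_zpowers_iff.mp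
      (hgen ▸ Subgroup.mem_top (⟨D l g, g, rfl⟩ : (D l).range) :
        (⟨D l g, g, rfl⟩ : (D l).range) ∈ Subgroup.zpowers ⟨δ l q, q, rfl⟩)
    refine ⟨r ^ (-i), ?_⟩
    have hi' := congrArg Subtype.val hi
    simp only [SubgroupClass.coe_zpow] at hi'
    rw [map_zpow, ← hi', zpow_neg, ← inv_zpow]
    show (δ n r)⁻¹ ^ i = _
    rw [← hr]
  obtain ⟨l₀, hl₀⟩ := hmoved
  obtain ⟨g₀, hg₀⟩ : ∃ g₀, δ l₀ g₀ ≠ 1 := by
    by_contra! hall
    exact hl₀ ((Subgroup.eq_top_iff' _).mpr fun g => (hδ1 _ g).mp (hall g))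
  set ζ := δ l₀ g₀ with hζ
  have hin : ∀ l g, ∃ i : ℤ, δ l g = ζ ^ i := by
    intro l g
    by_cases hl : linStab A l = ⊤
    · exact ⟨0, ((hδ1 l g).mpr (hl ▸ Subgroup.mem_top g)).trans (zpow_zero ζ).symm⟩
    have hmem : δ l g ∈ (D l₀).range := by
      by_cases he : linStab A l = linStab A l₀
      · obtain ⟨n, hn, hne⟩ := hother l₀ hl₀
        rw [hsame l₀ n hl₀ hn hne, ← hsame l n hl hn (he ▸ hne)]
        exact ⟨g, rfl⟩
      · rw [hsame l₀ l hl₀ hl he]; exact ⟨g, rfl⟩
    have hgen : Subgroup.zpowers (⟨ζ, g₀, rfl⟩ : (D l₀).range) = ⊤ :=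
      zpowers_eq_top_of_prime_card (hrange l₀ hl₀) fun h1 => hg₀ (congrArg Subtype.val h1)
    obtain ⟨i, hi⟩ := Subgroup.mem_zpowers_iff.mp
      (hgen ▸ Subgroup.mem_top (⟨δ l g, hmem⟩ : (D l₀).range) :
        (⟨δ l g, hmem⟩ : (D l₀).range) ∈ Subgroup.zpowers ⟨ζ, g₀, rfl⟩)
    exact ⟨i, (congrArg Subtype.val hi).symm.trans (SubgroupClass.coe_zpow _ _)⟩
  -- the centre has index `p` in `A`
  have hζp : ∀ k, ζ k ^ p = 1 := fun k => by
    have h1 := orderOf_dvd_natCard (⟨ζ, g₀, rfl⟩ : (D l₀).range)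
    rw [hrange l₀ hl₀, orderOf_dvd_iff_pow_eq_one] at h1
    have h2 := DFunLike.congr_fun (congrArg Subtype.val h1) k
    simpa using h2
  have hζker : ∀ k : A, ζ k = 1 → (k : G) ∈ Subgroup.center G := by
    intro k hk
    rw [Subgroup.mem_center_iff]
    intro g
    by_contra hne
    let : CommGroup A := { (inferInstance : Group A) with
      mul_comm := fun a b => Subtype.ext (hAab a a.2 b b.2) }
    obtain ⟨l, hl⟩ := CommGroup.exists_apply_ne_one_of_hasEnoughRootsOfUnity A ℂ
      (a := MulAut.conjNormal g k * k⁻¹) (fun he => hne (by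
        have := congrArg Subtype.val (mul_inv_eq_one.mp he)
        rwa [MulAut.conjNormal_apply, mul_inv_eq_iff_eq_mul] at this))
    refine hl ?_
    obtain ⟨i, hi⟩ := hin l g
    have := DFunLike.congr_fun hi k
    rw [hδ, MonoidHom.zpow_apply, hk, one_zpow] at this
    rw [map_mul, map_inv, ← div_eq_mul_inv, this]
  obtain ⟨a, ha⟩ : ∃ a : A, ζ a ≠ 1 := by
    by_contra! hall
    exact hg₀ (MonoidHom.ext hall)
  have hζrange : Nat.card ζ.range = p := by
    have hsub : ∀ v ∈ ζ.range, v ∈ rootsOfUnity p ℂ := by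
      rintro _ ⟨k, rfl⟩
      rw [mem_rootsOfUnity]; exact hζp k
    have hle : Nat.card ζ.range ≤ p := by
      have : NeZero p := ⟨hp.out.ne_zero⟩
      refine le_trans (Subgroup.card_le_of_le hsub) (le_of_eq ?_)
      exact Complex.card_rootsOfUnity p
    refine le_antisymm hle ?_
    have ho : orderOf (⟨ζ a, a, rfl⟩ : ζ.range) = p := by
      refine (Subgroup.orderOf_coe _).symm.trans ?_
      exact orderOf_eq_prime (hζp a) ha
    rw [← ho]; exact Nat.le_of_dvd Nat.card_pos (orderOf_dvd_natCard _)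
  have hAgen : ∀ b : A, ∃ (i : ℤ) (z : G), z ∈ Subgroup.center G ∧ (b : G) = (a : G) ^ i * z := by
    intro b
    have hgen : Subgroup.zpowers (⟨ζ a, a, rfl⟩ : ζ.range) = ⊤ :=
      zpowers_eq_top_of_prime_card hζrange fun h1 => ha (congrArg Subtype.val h1)
    obtain ⟨i, hi⟩ := Subgroup.mem_zpowers_iff.mp
      (hgen ▸ Subgroup.mem_top (⟨ζ b, b, rfl⟩ : ζ.range) :
        (⟨ζ b, b, rfl⟩ : ζ.range) ∈ Subgroup.zpowers ⟨ζ a, a, rfl⟩)
    have hi' : ζ a ^ i = ζ b := by
      have := congrArg Subtype.val hi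
      simpa using this
    refine ⟨i, ((a ^ i)⁻¹ * b : A), hζker _ ?_, ?_⟩
    · rw [map_mul, map_inv, map_zpow, hi', inv_mul_cancel]
    · simp
  have hZA : Subgroup.center G ≤ A := fun z hz =>
    hCA z fun k _ => Subgroup.mem_center_iff.mp hz k
  have hAZ : (Subgroup.center G).relIndex A = p := by
    rw [← hζrange, ← Subgroup.index_ker, Subgroup.relIndex]
    congr 1
    ext k
    refine ⟨fun hk => ?_, fun hk => hζker k hk⟩
    show ζ k = 1
    rw [hζ, hδ, div_eq_one]
    refine congrArg l₀ (Subtype.ext ?_)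
    rw [MulAut.conjNormal_apply]
    have h1 : g₀ * (k : G) = k * g₀ := Subgroup.mem_center_iff.mp hk g₀
    rw [h1, mul_inv_cancel_right]
  refine Or.inr ⟨A, a, hAn, hAab, hcA, hCA, hidxp, hZA, hAZ, ?_, hAgen, fun g => ?_⟩
  · have h1 := hζker (a ^ p) (by rw [map_pow]; exact hζp a)
    simpa using h1
  · have he : (⁅g, (a : G)⁆) = ((MulAut.conjNormal g a * a⁻¹ : A) : G) := by
      simp [commutatorElement_def]
    rw [he]
    refine hζker _ ?_
    rw [map_mul, map_inv, hζ, hfix, mul_inv_cancel]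

set_option maxHeartbeats 1000000 in
/-- A group all of whose degrees are `1` or `p` has an abelian normal subgroup of index `p` or a
centre of index `p ^ 3`. -/
theorem exists_abelian_index_or_center [Finite G] {p : ℕ} [hp : Fact p.Prime]
    (h : DegreesOneOr p G) (hna : ∃ a b : G, a * b ≠ b * a)
    (hcomm : ∀ a ∈ commutator G, ∀ b ∈ commutator G, a * b = b * a) :
    (∃ A : Subgroup G, A.Normal ∧ (∀ a ∈ A, ∀ b ∈ A, a * b = b * a) ∧ A.index = p) ∨
      (Subgroup.center G).index = p ^ 3 := by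
  classical
  cases nonempty_fintype G
  rcases exists_center_data h hna hcomm with h' |
    ⟨A, a, hAn, hAab, hcA, hCA, hidxp, hZA, hAZ, hap, hAgen, hwZ⟩
  · exact Or.inl h'
  have hcm : ∀ x y : G, ⁅x, y⁆ ∈ A := fun x y =>
    hcA (Subgroup.commutator_mem_commutator (Subgroup.mem_top x) (Subgroup.mem_top y))
  have hcentral : ∀ x : G, ∀ u ∈ Subgroup.center G, x * u = u * x :=
    fun x u hu => Subgroup.mem_center_iff.mp hu x
  let w : G →* Subgroup.center G := MonoidHom.mk' (fun g => ⟨⁅g, (a : G)⁆, hwZ g⟩)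
    fun g g' => Subtype.ext (by
      show ⁅g * g', (a : G)⁆ = ⁅g, (a : G)⁆ * ⁅g', (a : G)⁆
      have h1 : ⁅g * g', (a : G)⁆ = g * ⁅g', (a : G)⁆ * g⁻¹ * ⁅g, (a : G)⁆ := by
        simp [commutatorElement_def, mul_assoc]
      rw [h1, hcentral g _ (hwZ g'), mul_inv_cancel_right]
      exact (hcentral _ _ (hwZ g')).symm)
  have hwcoe : ∀ g, (w g : G) = ⁅g, (a : G)⁆ := fun g => rfl
  have hwker : ∀ g, w g = 1 ↔ g ∈ A := by
    intro g
    constructor
    · intro h1
      have hga : Commute (a : G) g :=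
        (commutatorElement_eq_one_iff_mul_comm.mp ((hwcoe g).symm.trans (congrArg Subtype.val h1))).symm
      refine hCA g fun k hk => ?_
      obtain ⟨i, z, hz, hkz⟩ := hAgen ⟨k, hk⟩
      change k = _ at hkz
      rw [hkz]
      exact ((hga.zpow_left i).mul_left (hcentral g z hz).symm).eq
    · intro hg
      exact Subtype.ext (commutatorElement_eq_one_iff_mul_comm.mpr (hAab g hg a a.2))
  have hwp : ∀ g, w g ^ p = 1 := by
    intro g
    refine Subtype.ext ?_
    have hc : Commute ⁅g, (a : G)⁆ (a : G) := (hcentral _ _ (hwZ g)).symm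
    have h1 : (MulAut.conj g) (a : G) = ⁅g, (a : G)⁆ * a := by
      simp [commutatorElement_def, mul_assoc]
    have h2 : (MulAut.conj g) (a : G) ^ p = (a : G) ^ p := by
      rw [← map_pow, MulAut.conj_apply, hcentral g _ hap, mul_inv_cancel_right]
    rw [h1, hc.mul_pow, mul_eq_right] at h2
    rw [SubgroupClass.coe_pow, hwcoe, h2]
    rfl
  have hwrange : Nat.card w.range = A.index := by
    rw [← Subgroup.index_ker]
    congr 1
    ext g
    exact hwker g
  obtain ⟨r, hr⟩ := (IsPGroup.iff_card (p := p) (G := w.range)).mp fun x => ⟨1, by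
    obtain ⟨_, g, rfl⟩ := x
    rw [pow_one]
    exact Subtype.ext (hwp g)⟩
  have hindex : (Subgroup.center G).index = p * p ^ r := by
    rw [← hr, hwrange, ← hAZ, Subgroup.relIndex_mul_index hZA]
  have hr0 : r ≠ 0 := by
    rintro rfl
    rw [hwrange, pow_zero, Subgroup.index_eq_one] at hr
    obtain ⟨u, v, huv⟩ := hna
    exact huv (hAab u (hr ▸ Subgroup.mem_top u) v (hr ▸ Subgroup.mem_top v))
  have hr1 : r ≠ 1 := by
    rintro rfl
    exact hidxp (by rw [← hwrange, hr, pow_one])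
  by_cases hr2 : r = 2
  · right
    rw [hindex, hr2]; ring
  left
  -- pairs of elements generate small groups
  have hbig : ∀ x y : G, ∃ g, w g ∉ Subgroup.closure {w x, w y} := by
    intro x y
    by_contra! hall
    have hle : w.range ≤ Subgroup.closure {w x, w y} := by
      rintro _ ⟨g, rfl⟩; exact hall g
    let := centerCommGroup G
    have h1 := card_closure_pair_le (Q := Subgroup.center G) hp.out.pos (hwp x) (hwp y)
    have h2 := Subgroup.card_le_of_le hle
    rw [hr] at h2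
    have h3 : p ^ 3 ≤ p ^ r := Nat.pow_le_pow_right hp.out.pos (by omega)
    have h4 : p ^ 2 < p ^ 3 := Nat.pow_lt_pow_right hp.out.one_lt (by omega)
    omega
  have hpow : ∀ {H : Subgroup (Subgroup.center G)} {g : G} {j : ℤ},
      w g ^ j ∈ H → w g ∉ H → (p : ℤ) ∣ j := fun hj hg => dvd_of_zpow_mem hp.out (hwp _) hj hg
  -- all commutators lie in small central subgroups
  have hbr : ∀ x y : G, ∃ v ∈ Subgroup.closure {w x, w y}, (v : G) = ⁅x, y⁆ := by
    intro x y
    by_contra hno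
    set inc : Subgroup.center G →* A := Subgroup.inclusion hZA with hinc
    set S : Subgroup A := (Subgroup.closure {w x, w y}).map inc with hS
    set c : A := ⟨⁅x, y⁆, hcm x y⟩ with hcdef
    have hcS : c ∉ S := by
      rintro ⟨v, hv, hvc⟩
      exact hno ⟨v, hv, (congrArg Subtype.val hvc : _)⟩
    obtain ⟨g, hg⟩ := hbig x y
    have hgS : inc (w g) ∉ S := by
      rintro ⟨v, hv, hvc⟩
      exact hg (Subgroup.inclusion_injective hZA hvc ▸ hv)
    obtain ⟨l₁, hl₁S, hl₁⟩ := exists_hom_separating A hAab S c hcS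
    obtain ⟨l₂, hl₂S, hl₂⟩ := exists_hom_separating A hAab S _ hgS
    obtain ⟨l, hlS, hlc, hlg⟩ : ∃ l : A →* ℂˣ, (∀ s ∈ S, l s = 1) ∧ l c ≠ 1 ∧ l (inc (w g)) ≠ 1 := by
      by_cases e1 : l₁ (inc (w g)) = 1
      · by_cases e2 : l₂ c = 1
        · refine ⟨l₁ * l₂, fun s hs => ?_, ?_, ?_⟩
          · rw [MonoidHom.mul_apply, hl₁S s hs, hl₂S s hs, one_mul]
          · rw [MonoidHom.mul_apply, e2, mul_one]; exact hl₁
          · rw [MonoidHom.mul_apply, e1, one_mul]; exact hl₂
        · exact ⟨l₂, hl₂S, e2, hl₂⟩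
      · exact ⟨l₁, hl₁S, hl₁, e1⟩
    have hstabiff : ∀ t : G, t ∈ linStab A l ↔ l (inc (w t)) = 1 := by
      intro t
      have he : MulAut.conjNormal t a = inc (w t) * a := Subtype.ext (by
        simp [hinc, hwcoe, commutatorElement_def, mul_assoc])
      rw [mem_linStab]
      constructor
      · intro h1
        have h2 := h1 a
        rw [he, map_mul] at h2
        exact mul_eq_right.mp h2
      · intro h1 k
        obtain ⟨i, z, hz, hkz⟩ := hAgen k
        have hk : k = a ^ i * ⟨z, hZA hz⟩ := Subtype.ext (by simpa using hkz)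
        have hzfix : MulAut.conjNormal t (⟨z, hZA hz⟩ : A) = ⟨z, hZA hz⟩ := Subtype.ext (by
          rw [MulAut.conjNormal_apply, hcentral t z hz, mul_inv_cancel_right])
        rw [hk, map_mul, map_mul, map_mul, map_zpow, map_zpow, map_zpow, hzfix, he, map_mul, h1,
          one_mul]
    refine hlc ((linStab_facts hp.out h A hAab hcA l fun htop => hlg ((hstabiff g).mp
      (htop ▸ Subgroup.mem_top g))).2 x ?_ y ?_)
    · exact (hstabiff x).mpr (hlS _ ⟨w x, Subgroup.subset_closure (by simp), rfl⟩)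
    · exact (hstabiff y).mpr (hlS _ ⟨w y, Subgroup.subset_closure (by simp), rfl⟩)
  have hcmZ : ∀ x y : G, ⁅x, y⁆ ∈ Subgroup.center G := fun x y => by
    obtain ⟨v, -, hv⟩ := hbr x y
    exact hv ▸ v.2
  let κ : G → G →* Subgroup.center G := fun x => MonoidHom.mk' (fun y => ⟨⁅x, y⁆, hcmZ x y⟩)
    fun y y' => Subtype.ext (by
      show ⁅x, y * y'⁆ = ⁅x, y⁆ * ⁅x, y'⁆
      have h1 : ⁅x, y * y'⁆ = ⁅x, y⁆ * (y * ⁅x, y'⁆ * y⁻¹) := by
        simp [commutatorElement_def, mul_assoc]
      rw [h1, hcentral y _ (hcmZ x y'), mul_inv_cancel_right])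
  have hκmul : ∀ x x' y, κ (x * x') y = κ x y * κ x' y := fun x x' y => Subtype.ext (by
    show ⁅x * x', y⁆ = ⁅x, y⁆ * ⁅x', y⁆
    have h1 : ⁅x * x', y⁆ = x * ⁅x', y⁆ * x⁻¹ * ⁅x, y⁆ := by
      simp [commutatorElement_def, mul_assoc]
    rw [h1, hcentral x _ (hcmZ x' y), mul_inv_cancel_right]
    exact (hcentral _ _ (hcmZ x' y)).symm)
  have hκw : ∀ x, κ x a = w x := fun x => rfl
  have hκa : ∀ z, κ a z = (w z)⁻¹ := fun z => Subtype.ext (by
    show ⁅(a : G), z⁆ = (⁅z, (a : G)⁆)⁻¹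
    rw [commutatorElement_inv])
  have hκmem : ∀ x y, κ x y ∈ Subgroup.closure {w x, w y} := by
    intro x y
    obtain ⟨v, hv, he⟩ := hbr x y
    have : v = κ x y := Subtype.ext he
    rwa [← this]
  -- modulo `w x`, commutation with `x` is a fixed power of commutation with `a`
  have hlinear : ∀ x : G, ∃ c : ℤ, ∀ z, κ x z * (w z ^ c)⁻¹ ∈ Subgroup.zpowers (w x) := by
    intro x
    let := centerCommGroup G
    exact exists_uniform_power_mod (Q := Subgroup.center G) hp.out (κ x) w hwp (w x)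
      (hκmem x) fun z₁ => hbig x z₁
  obtain ⟨x₀, hx₀⟩ : ∃ x₀ : G, x₀ ∉ A := by
    by_contra! hall
    obtain ⟨u, v, huv⟩ := hna
    exact huv (hAab u (hall u) v (hall v))
  obtain ⟨c₀, hc₀⟩ := hlinear x₀
  set x := x₀ * (a : G) ^ c₀ with hxdef
  have hwa : w (a : G) = 1 := (hwker _).mpr a.2
  have hwx : w x = w x₀ := by rw [hxdef, map_mul, map_zpow, hwa, one_zpow, mul_one]
  have hwx1 : w x ≠ 1 := hwx ▸ fun h1 => hx₀ ((hwker _).mp h1)
  have hκapow : ∀ (i : ℤ) z, κ ((a : G) ^ i) z = (w z ^ i)⁻¹ := by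
    intro i z
    let f : G →* Subgroup.center G := MonoidHom.mk' (fun u => κ u z) fun u v => hκmul u v z
    show f ((a : G) ^ i) = _
    rw [map_zpow]
    show κ a z ^ i = _
    rw [hκa, inv_zpow]
  have hκx : ∀ z, κ x z ∈ Subgroup.zpowers (w x) := fun z => by
    rw [hxdef, hκmul, hκapow, ← hxdef, hwx]
    exact hc₀ z
  have hCr : (κ x).range = Subgroup.zpowers (w x) := by
    refine le_antisymm (by rintro _ ⟨z, rfl⟩; exact hκx z) (Subgroup.zpowers_le.mpr ⟨a, rfl⟩)
  have hxx : x ∈ (κ x).ker := Subtype.ext (by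
    show ⁅x, x⁆ = 1
    exact commutatorElement_self x)
  have hidxC : (κ x).ker.index = p := by
    rw [Subgroup.index_ker, hCr, Nat.card_zpowers]
    exact orderOf_eq_prime (hwp x) hwx1
  have hCA' : ∀ u ∈ (κ x).ker, u ∈ A → u ∈ Subgroup.center G := by
    intro u hu huA
    obtain ⟨i, z, hz, huz⟩ := hAgen ⟨u, huA⟩
    change u = _ at huz
    have hzk : κ x z = 1 := Subtype.ext
      (commutatorElement_eq_one_iff_mul_comm.mpr (hcentral x z hz))
    have h1 : w x ^ i = 1 := by
      have h0 : κ x u = 1 := hu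
      rwa [huz, map_mul, map_zpow, hzk, mul_one, hκw] at h0
    obtain ⟨j, hj⟩ := hpow (H := ⊥) (Subgroup.mem_bot.mpr h1) (fun hm => hwx1 (Subgroup.mem_bot.mp hm))
    rw [huz, hj, zpow_mul, zpow_natCast]
    exact Subgroup.mul_mem _ (Subgroup.zpow_mem _ hap j) hz
  -- an element of `ker` is in `⟨x⟩ Z` as soon as its image is in `⟨w x⟩`
  have hsmall : ∀ y ∈ (κ x).ker, ∀ y' ∈ (κ x).ker, w y ∈ Subgroup.zpowers (w x) → κ y' y = 1 := by
    intro y hy y' hy' hmem
    obtain ⟨i, hi⟩ := Subgroup.mem_zpowers_iff.mp hmem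
    have hu : (x ^ i)⁻¹ * y ∈ Subgroup.center G := by
      refine hCA' _ ((κ x).ker.mul_mem ((κ x).ker.inv_mem ((κ x).ker.zpow_mem hxx i)) hy)
        ((hwker _).mp ?_)
      rw [map_mul, map_inv, map_zpow, hi, inv_mul_cancel]
    have h1 : κ y' ((x ^ i)⁻¹ * y) = 1 :=
      Subtype.ext (commutatorElement_eq_one_iff_mul_comm.mpr (hcentral y' _ hu))
    have hxy : κ y' x = 1 := Subtype.ext (by
      show ⁅y', x⁆ = 1
      have h0 : ⁅x, y'⁆ = 1 := congrArg Subtype.val (hy' : κ x y' = 1)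
      rw [← commutatorElement_inv, h0, inv_one])
    rw [map_mul, map_inv, map_zpow, hxy, one_zpow, inv_one, one_mul] at h1
    exact h1
  have hmine : ∀ y ∈ (κ x).ker, w y ∉ Subgroup.zpowers (w x) → ∀ z,
      κ y z ∈ Subgroup.zpowers (w y) := by
    intro y hy hyx z
    obtain ⟨c, hc⟩ := hlinear y
    have hxy : κ y x = 1 := Subtype.ext (by
      show ⁅y, x⁆ = 1
      have h0 : ⁅x, y⁆ = 1 := congrArg Subtype.val (hy : κ x y = 1)
      rw [← commutatorElement_inv, h0, inv_one])
    have hwy1 : w x ∉ Subgroup.zpowers (w y) := by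
      intro hmem
      obtain ⟨i, hi⟩ := Subgroup.mem_zpowers_iff.mp hmem
      have hi' : w y ^ i ∈ Subgroup.zpowers (w x) := hi ▸ Subgroup.mem_zpowers _
      obtain ⟨j, hj⟩ := hpow hi' hyx
      rw [hj, zpow_mul, zpow_natCast, hwp, one_zpow] at hi
      exact hwx1 hi.symm
    have h1 := hc x
    rw [hxy, one_mul, Subgroup.inv_mem_iff] at h1
    obtain ⟨j, hj⟩ := hpow h1 hwy1
    have h2 := hc z
    rwa [hj, zpow_mul, zpow_natCast, hwp, one_zpow, inv_one, mul_one] at h2
  refine ⟨(κ x).ker, inferInstance, fun y hy z hz => ?_, hidxC⟩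
  refine commutatorElement_eq_one_iff_mul_comm.mp (congrArg Subtype.val (?_ : κ y z = 1))
  by_cases hyx : w y ∈ Subgroup.zpowers (w x)
  · have h1 := hsmall y hy z hz hyx
    refine Subtype.ext ?_
    show ⁅y, z⁆ = 1
    have h0 : ⁅z, y⁆ = 1 := congrArg Subtype.val h1
    rw [← commutatorElement_inv, h0, inv_one]
  by_cases hzx : w z ∈ Subgroup.zpowers (w x)
  · exact hsmall z hz y hy hzx
  by_cases hzy : w z ∈ Subgroup.zpowers (w y)
  · obtain ⟨i, hi⟩ := Subgroup.mem_zpowers_iff.mp hzy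
    have hu : (y ^ i)⁻¹ * z ∈ Subgroup.center G := by
      refine hCA' _ ((κ x).ker.mul_mem ((κ x).ker.inv_mem ((κ x).ker.zpow_mem hy i)) hz)
        ((hwker _).mp ?_)
      rw [map_mul, map_inv, map_zpow, hi, inv_mul_cancel]
    have h1 : κ y ((y ^ i)⁻¹ * z) = 1 :=
      Subtype.ext (commutatorElement_eq_one_iff_mul_comm.mpr (hcentral y _ hu))
    have hyy : κ y y = 1 := Subtype.ext (commutatorElement_self y)
    rwa [map_mul, map_inv, map_zpow, hyy, one_zpow, inv_one, one_mul] at h1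
  · have h1 := hmine y hy hyx z
    have h2 : κ y z ∈ Subgroup.zpowers (w z) := by
      have h0 : κ y z = (κ z y)⁻¹ := Subtype.ext (commutatorElement_inv z y).symm
      rw [h0]
      exact Subgroup.inv_mem _ (hmine z hz hzx y)
    obtain ⟨i, hi⟩ := Subgroup.mem_zpowers_iff.mp h2
    obtain ⟨j, hj⟩ := hpow (hi ▸ h1 : w z ^ i ∈ Subgroup.zpowers (w y)) hzy
    rw [← hi, hj, zpow_mul, zpow_natCast, hwp, one_zpow]

/-- The square of an irreducible degree is at most the index of the centre. -/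
theorem sq_charDegree_le_index_center [Finite G] (χ : IrrCharacter G) :
    charDegree (χ : G → ℂ) ^ 2 ≤ (Subgroup.center G).index := by
  classical
  cases nonempty_fintype G
  set d := charDegree (χ : G → ℂ) with hd
  obtain ⟨n, ρ, hρ, hρχ⟩ := irr_exists_rep χ
  have hdn : d = n := by
    have h1 := (charDegree_spec χ).2
    conv_lhs at h1 => rw [← hρχ, ρ.char_one, Module.finrank_fintype_fun_eq_card, Fintype.card_fin]
    exact (Nat.cast_injective h1).symm
  have hsum := KGV.sum_normSq_eq_card χ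
  have hval : ∀ z ∈ Subgroup.center G, Complex.normSq ((χ : G → ℂ) z) = (d : ℝ) ^ 2 := by
    intro z hz
    have hsc : ∀ u ∈ Subgroup.center G, ∃ c : ℂ, ρ u = c • (1 : Module.End ℂ (Fin n → ℂ)) := by
      intro u hu
      obtain ⟨c, hc⟩ := Lib.Clifford.schur_scalar ρ (ρ u) fun g => by
        rw [← map_mul, ← map_mul, Subgroup.mem_center_iff.mp hu g]
      exact ⟨c, hc⟩
    obtain ⟨c, hc⟩ := hsc z hz
    obtain ⟨c', hc'⟩ := hsc z⁻¹ ((Subgroup.center G).inv_mem hz)
    have hcc : c * c' = 1 := by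
      have h1 : ρ z * ρ z⁻¹ = 1 := by rw [← map_mul, mul_inv_cancel, map_one]
      rw [hc, hc', smul_mul_smul_comm, mul_one] at h1
      have h2 := congrArg (LinearMap.trace ℂ (Fin n → ℂ)) h1
      rw [map_smul, LinearMap.trace_one, smul_eq_mul, Module.finrank_fintype_fun_eq_card,
        Fintype.card_fin] at h2
      exact mul_right_cancel₀ (Nat.cast_ne_zero.mpr ((charDegree_spec χ).1.trans_eq hdn).ne')
        (h2.trans (one_mul _).symm)
    have e1 : ∀ (u : G) (t : ℂ), ρ u = t • 1 → (χ : G → ℂ) u = t * d := by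
      intro u t ht
      rw [← hρχ, Representation.character, ht, map_smul, LinearMap.trace_one, smul_eq_mul,
        Module.finrank_fintype_fun_eq_card, Fintype.card_fin, hdn]
    apply Complex.ofReal_injective
    rw [Complex.normSq_eq_conj_mul_self, ← irr_inv χ z, e1 _ _ hc, e1 _ _ hc']
    push_cast
    linear_combination ((d : ℂ) ^ 2) * hcc
  have h1 : ∑ g ∈ Finset.univ.filter (· ∈ Subgroup.center G), Complex.normSq ((χ : G → ℂ) g)
      ≤ (Nat.card G : ℝ) := by
    rw [← hsum]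
    exact Finset.sum_le_sum_of_subset_of_nonneg (Finset.subset_univ _) fun g _ _ =>
      Complex.normSq_nonneg _
  rw [Finset.sum_congr rfl fun g hg => hval g (Finset.mem_filter.mp hg).2, Finset.sum_const,
    nsmul_eq_mul] at h1
  have hc : (Finset.univ.filter (· ∈ Subgroup.center G)).card = Nat.card (Subgroup.center G) := by
    rw [Nat.card_eq_fintype_card, Fintype.card_subtype]
  rw [hc, ← (Subgroup.center G).card_mul_index] at h1
  have h2 : Nat.card (Subgroup.center G) * d ^ 2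
      ≤ Nat.card (Subgroup.center G) * (Subgroup.center G).index := by exact_mod_cast h1
  exact Nat.le_of_mul_le_mul_left h2 Nat.card_pos

end Cfsg.Agent.Lib.Chars
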