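import Cfsg.Agent.Lib.Chars.RegularOrbit
import Cfsg.Agent.Lib.Chars.PResidualDegree
import Cfsg.Agent.Lib.BrauerInd.Nilpotent
import Cfsg.Agent.Lib.Clifford.Correspondence
import Cfsg.Agent.Lib.CoprimeDegree
import Cfsg.Agent.Lib.Codegree
import Cfsg.Agent.S0887

/-!
# Groups with two character degrees
-/

set_option autoImplicit false

namespace Cfsg.Agent.Lib.Chars

open Cfsg.Agent.Lib.Clifford
open scoped commutatorElement

universe u

/-- Every irreducible degree is `1` or `m`. -/
def DegreesOneOr (m : ℕ) (G : Type u) [Group G] : Prop :=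
  ∀ χ : IrrCharacter G, charDegree (χ : G → ℂ) = 1 ∨ charDegree (χ : G → ℂ) = m

variable {G : Type u} [Group G]

theorem degree_eq_of [Finite G] {m : ℕ} (h : DegreesOneOr m G) (χ : IrrCharacter G) :
    (χ : G → ℂ) 1 = 1 ∨ (χ : G → ℂ) 1 = m := by
  rw [(charDegree_spec χ).2]
  exact (h χ).imp (fun h => by simp [h]) (fun h => by rw [h])

theorem degreesOneOr_of_surjective {H : Type u} [Group H] [Finite G] [Finite H] {m : ℕ}
    (h : DegreesOneOr m G) (f : G →* H) (hf : Function.Surjective f) : DegreesOneOr m H := by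
  intro χ
  have := h ⟨_, isIrrCharacter_comp_surjective f hf χ.2⟩
  simpa [charDegree] using this

/-- The commutator subgroup acts trivially in a degree one character. -/
theorem eq_one_of_mem_commutator [Finite G] (χ : IrrCharacter G) (h1 : (χ : G → ℂ) 1 = 1) {g : G}
    (hg : g ∈ commutator G) : (χ : G → ℂ) g = 1 := by
  obtain ⟨f, hf⟩ := exists_hom_of_degree_one (irr_isCharacter χ) h1
  rw [hf]
  simp only
  rw [MonoidHom.mem_ker.mp (Abelianization.commutator_subset_ker f hg), Units.val_one]

/-- A nilpotent group with two degrees is metabelian (Taketa). -/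
theorem derivedSeries_two_eq_bot_of_isNilpotent [Finite G] [Group.IsNilpotent G] {m : ℕ}
    (h : DegreesOneOr m G) : derivedSeries G 2 = ⊥ := by
  classical
  cases nonempty_fintype G
  rw [Subgroup.eq_bot_iff_forall]
  intro g hg
  refine isConj_one_left.mp ((isConj_iff_irr (g := g) (h := 1)).mpr fun χ => ?_)
  have h2le : derivedSeries G 2 ≤ commutator G := by
    rw [← derivedSeries_one]
    exact derivedSeries_antitone G one_le_two
  rcases degree_eq_of h χ with h1 | hm
  · rw [h1]
    exact eq_one_of_mem_commutator χ h1 (h2le hg)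
  obtain ⟨H, lam, hχ⟩ := BrauerInd.exists_monomial G (χ : G → ℂ) χ.2
  have := Fintype.ofFinite H
  by_cases h1 : m = 1
  · rw [hm, h1, Nat.cast_one]
    exact eq_one_of_mem_commutator χ (by rw [hm, h1, Nat.cast_one]) (h2le hg)
  have hidx : H.index = m := by
    have h1 := indFun_one_eq H (fun x : H => ((lam x : ℂˣ) : ℂ))
    rw [← hχ, hm, map_one, Units.val_one, mul_one] at h1
    exact_mod_cast h1.symm
  -- the permutation character
  set P : G → ℂ := indFun H (fun _ => 1) with hP
  obtain ⟨c, hc⟩ := isCharacter_exists_nat_decomp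
    (isCharacter_indFun H (irr_isCharacter (trivialIrr H)))
  have hc' : P = ∑ ψ, (c ψ : ℂ) • (ψ : G → ℂ) := hc
  have hP1 : P 1 = (H.index : ℂ) := by rw [hP, indFun_one_eq, mul_one]
  have hsum : ∑ ψ, c ψ * charDegree (ψ : G → ℂ) = H.index := by
    have h1 := congrFun hc' 1
    simp only [hP1, Finset.sum_apply, Pi.smul_apply, smul_eq_mul, (charDegree_spec _).2] at h1
    exact_mod_cast h1.symm
  have htriv : c (trivialIrr G) = 1 := by
    have h1 : classInner P (trivialIrr G : G → ℂ) = (c (trivialIrr G) : ℂ) := by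
      rw [hc', classInner_sum_smul_irr]
    rw [hP, classInner_indFun_left H _ _ (irr_isClassFunction _)] at h1
    have h2 : classInner (fun _ : H => (1 : ℂ)) (fun x : H => (trivialIrr G : G → ℂ) x) = 1 :=
      classInner_irr_self (trivialIrr H)
    rw [h2] at h1
    exact_mod_cast h1.symm
  have hlin : ∀ ψ, c ψ ≠ 0 → (ψ : G → ℂ) 1 = 1 := by
    intro ψ hψ
    rcases degree_eq_of h ψ with h' | h'
    · exact h'
    exfalso
    have hd : charDegree (ψ : G → ℂ) = m := by
      have := (charDegree_spec ψ).2; rw [h'] at this; exact_mod_cast this.symm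
    have hne : ψ ≠ trivialIrr G := by
      rintro rfl
      rw [trivialIrr_apply, eq_comm, Nat.cast_eq_one] at h'
      exact h1 h'
    have h2 := Finset.add_le_sum (f := fun ψ : IrrCharacter G => c ψ * charDegree (ψ : G → ℂ))
      (fun _ _ => Nat.zero_le _) (Finset.mem_univ ψ) (Finset.mem_univ (trivialIrr G)) hne
    simp only [hsum, htriv, hd, one_mul, hidx] at h2
    have := Nat.le_mul_of_pos_left m (Nat.pos_of_ne_zero hψ)
    have := (charDegree_spec (trivialIrr G)).1
    omega
  have hsub : commutator G ≤ H := by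
    intro y hy
    by_contra hyH
    have hPy : P y = P 1 := by
      simp only [hc', Finset.sum_apply, Pi.smul_apply, smul_eq_mul]
      refine Finset.sum_congr rfl fun ψ _ => ?_
      by_cases hψ : c ψ = 0
      · simp [hψ]
      · rw [eq_one_of_mem_commutator ψ (hlin ψ hψ) hy, hlin ψ hψ]
    rw [hP1, hP] at hPy
    have hb : ∀ x : G, extendByZero H (fun _ => (1 : ℂ)) (x⁻¹ * y * x)
        = if x⁻¹ * y * x ∈ H then 1 else 0 := by
      intro x
      by_cases hx : x⁻¹ * y * x ∈ H
      · rw [if_pos hx, extendByZero_of_mem _ hx]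
      · rw [if_neg hx, extendByZero_of_not_mem _ hx]
    simp only [indFun, hb] at hPy
    rw [Finset.sum_boole, inv_mul_eq_iff_eq_mul₀ (Nat.cast_ne_zero.mpr Nat.card_pos.ne'),
      ← Nat.cast_mul, Subgroup.card_mul_index, Nat.card_eq_fintype_card] at hPy
    have hall := Finset.card_eq_iff_eq_univ _ |>.mp (Nat.cast_injective hPy)
    have := Finset.eq_univ_iff_forall.mp hall 1
    simp only [Finset.mem_filter, Finset.mem_univ, true_and, inv_one, one_mul, mul_one] at this
    exact hyH this
  have hker : ∀ y ∈ derivedSeries G 2, extendByZero H (fun x : H => ((lam x : ℂˣ) : ℂ)) y = 1 := by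
    intro y hy
    have hy' : y ∈ (commutator H).map H.subtype := by
      rw [Subgroup.map_subtype_commutator]
      have h2 : derivedSeries G 2 = ⁅commutator G, commutator G⁆ := by
        rw [derivedSeries_succ, derivedSeries_one]
      rw [h2] at hy
      exact Subgroup.commutator_mono hsub hsub hy
    obtain ⟨x, hx, rfl⟩ := Subgroup.mem_map.mp hy'
    rw [Subgroup.subtype_apply, extendByZero_coe,
      MonoidHom.mem_ker.mp (Abelianization.commutator_subset_ker lam hx), Units.val_one]
  have h1' : (χ : G → ℂ) 1 = indFun H (fun x : H => ((lam x : ℂˣ) : ℂ)) 1 := by rw [← hχ]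
  rw [h1', hχ]
  simp only [indFun]
  rw [Finset.sum_congr rfl (g := fun _ => (1 : ℂ)) fun x _ => hker _ (by
    have := (derivedSeries_normal G 2).conj_mem g hg x⁻¹
    simpa using this),
    Finset.sum_congr rfl (s₁ := (Finset.univ : Finset G))
      (f := fun x => extendByZero H (fun x : H => ((lam x : ℂˣ) : ℂ)) (x⁻¹ * 1 * x))
      (g := fun _ => (1 : ℂ)) fun x _ => hker _ (by simp [Subgroup.one_mem])]

/-- An irreducible character of the inertia group of an invariant linear character of an abelian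
normal subgroup gives an irreducible character of the group. -/
theorem exists_irr_of_inertia [Finite G] {H : Type u} [Group H] [Finite H] (K : Subgroup G)
    [K.Normal] (hKab : ∀ a ∈ K, ∀ b ∈ K, a * b = b * a) (π : G →* H) (σ : H →* G)
    (hπσ : ∀ x, π (σ x) = x) (hker : ∀ g, π g = 1 ↔ g ∈ K) (l : K →* ℂˣ) (T : Subgroup H)
    (hT : ∀ x : H, x ∈ T ↔ ∀ k : K, l (MulAut.conjNormal (σ x) k) = l k) (θ : IrrCharacter T) :
    ∃ χ : IrrCharacter G, (χ : G → ℂ) 1 = (T.index : ℂ) * (θ : T → ℂ) 1 := by
  classical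
  cases nonempty_fintype G
  have hπsurj : Function.Surjective π := fun x => ⟨σ x, hπσ x⟩
  have hsec : ∀ g : G, g * (σ (π g))⁻¹ ∈ K := fun g => by
    rw [← hker, map_mul, map_inv, hπσ, mul_inv_cancel]
  set T' : Subgroup G := T.comap π with hT'
  have := Fintype.ofFinite T'
  have := Fintype.ofFinite K
  have hKT : K ≤ T' := fun k hk => by
    rw [hT', Subgroup.mem_comap, (hker k).mpr hk]; exact T.one_mem
  have hconjK : ∀ (g : G) (k : K), MulAut.conjNormal g k = MulAut.conjNormal (σ (π g)) k := by
    intro g k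
    conv_lhs => rw [← inv_mul_cancel_right g (σ (π g))]
    rw [map_mul, MulAut.mul_apply]
    generalize MulAut.conjNormal (σ (π g)) k = k'
    apply Subtype.ext
    rw [MulAut.conjNormal_apply, hKab _ (hsec g) _ k'.2, mul_inv_cancel_right]
  let lt : T' →* ℂˣ :=
    { toFun := fun g => l ⟨(g : G) * (σ (π g))⁻¹, hsec g⟩
      map_one' := by
        have : (⟨((1 : T') : G) * (σ (π ((1 : T') : G)))⁻¹, hsec _⟩ : K) = 1 :=
          Subtype.ext (by simp)
        rw [this, map_one]
      map_mul' := fun a b => by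
        have he : (⟨((a * b : T') : G) * (σ (π ((a * b : T') : G)))⁻¹, hsec _⟩ : K) =
            ⟨(a : G) * (σ (π a))⁻¹, hsec a⟩ *
              MulAut.conjNormal (σ (π a)) ⟨(b : G) * (σ (π b))⁻¹, hsec b⟩ := by
          apply Subtype.ext
          simp only [Subgroup.coe_mul, map_mul, MulAut.conjNormal_apply, mul_inv_rev]
          group
        rw [he, map_mul, (hT _).mp a.2] }
  let pT : T' →* T := (π.comp T'.subtype).codRestrict T fun x => x.2
  have hpT : Function.Surjective pT := fun x => ⟨⟨σ x, by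
    show π (σ x) ∈ T
    rw [hπσ]; exact x.2⟩, Subtype.ext (hπσ x)⟩
  set ψ : T' → ℂ := fun g => (lt g : ℂ) * (θ : T → ℂ) (pT g) with hψ
  have hψirr : IsIrrCharacter T' ψ :=
    isIrrCharacter_hom_mul lt (isIrrCharacter_comp_surjective pT hpT θ.2)
  have hres : resTo hKT ψ = (θ : T → ℂ) 1 • (fun k : K => ((l k : ℂˣ) : ℂ)) := by
    funext k
    have h1 : pT ⟨(k : G), hKT k.2⟩ = 1 := Subtype.ext ((hker k).mpr k.2)
    have h2 : lt ⟨(k : G), hKT k.2⟩ = l k :=
      congrArg l (Subtype.ext (by simp [(hker k).mpr k.2]))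
    show (lt ⟨(k : G), hKT k.2⟩ : ℂ) * (θ : T → ℂ) (pT ⟨(k : G), hKT k.2⟩) = _
    rw [h1, h2, Pi.smul_apply, smul_eq_mul, mul_comm]
  have hirr := isIrrCharacter_indFun_inertia (isIrrCharacter_of_hom l) (T := T') (fun g => ?_)
    hKT hψirr (by
      rw [hres, classInner_smul_left]
      have h1 : classInner (fun k : K => ((l k : ℂˣ) : ℂ)) (fun k : K => ((l k : ℂˣ) : ℂ)) = 1 :=
        classInner_irr_self (linIrr l)
      rw [h1, mul_one]
      exact irr_apply_one_ne_zero θ)
  · refine ⟨⟨_, hirr⟩, ?_⟩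
    show (indFun T' ψ) 1 = _
    rw [indFun_one_eq, show T'.index = T.index from Subgroup.index_comap_of_surjective T hπsurj]
    congr 1
    show (lt 1 : ℂ) * (θ : T → ℂ) (pT 1) = _
    rw [map_one, map_one, Units.val_one, one_mul]
  · constructor
    · intro hg
      funext k
      show ((l (MulAut.conjNormal g k) : ℂˣ) : ℂ) = _
      rw [hconjK, (hT _).mp hg]
    · intro hg
      show π g ∈ T
      refine (hT _).mpr fun k => Units.ext ?_
      rw [← hconjK]
      exact congrFun hg k

/-- The structure of a group with two character degrees. -/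
theorem two_degrees_structure [Finite G] {m : ℕ} (hm1 : m ≠ 1) (h : DegreesOneOr m G)
    (hex : ∃ χ : IrrCharacter G, charDegree (χ : G → ℂ) = m) :
    ((∃ A : Subgroup G, A.Normal ∧ (∀ a ∈ A, ∀ b ∈ A, a * b = b * a) ∧ A.index = m) ∨
      ∃ p e : ℕ, p.Prime ∧ m = p ^ e ∧ ∃ P A : Subgroup G, P.Normal ∧ A.Normal ∧ IsPGroup p P ∧
        (∀ a ∈ A, ∀ b ∈ A, a * b = b * a) ∧ P ⊓ A = ⊥ ∧ P ⊔ A = ⊤ ∧
        (∀ a ∈ A, ∀ b ∈ P, a * b = b * a)) ∧
      ∀ a ∈ commutator G, ∀ b ∈ commutator G, a * b = b * a := by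
  classical
  cases nonempty_fintype G
  obtain ⟨χ₀, hχ₀⟩ := hex
  have hm0 : m ≠ 0 := fun h0 => (charDegree_spec χ₀).1.ne' (hχ₀.trans h0)
  have hpi : ∀ p ∈ m.primeFactors, Fact p.Prime := fun p hp => ⟨Nat.prime_of_mem_primeFactors hp⟩
  have hres : ∀ p ∈ m.primeFactors, ¬ p ∣ Nat.card (Cfsg.pResidual p G) := fun p hp => by
    have := hpi p hp
    exact not_dvd_card_pResidual_of_degrees p fun χ hχ =>
      ((h χ).resolve_left hχ) ▸ Nat.dvd_of_mem_primeFactors hp
  set K : Subgroup G := ⨅ p : m.primeFactors, Cfsg.pResidual (p : ℕ) G with hK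
  have hKn : K.Normal := Subgroup.normal_iInf_normal fun p => Transfer.pResidual_normal
  have hKle : ∀ p ∈ m.primeFactors, K ≤ Cfsg.pResidual p G := fun p hp =>
    iInf_le (fun p : m.primeFactors => Cfsg.pResidual (p : ℕ) G) ⟨p, hp⟩
  have hKm : (Nat.card K).Coprime m := Nat.coprime_of_dvd fun q hq hqK hqm => by
    have hmem : q ∈ m.primeFactors := Nat.mem_primeFactors.mpr ⟨hq, hqm, hm0⟩
    exact hres q hmem (hqK.trans (Subgroup.card_dvd_of_le (hKle q hmem)))
  have hKidx : ∀ q : ℕ, q.Prime → q ∣ K.index → q ∈ m.primeFactors := by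
    intro q hq hqi
    by_contra hmem
    have : Fact q.Prime := ⟨hq⟩
    obtain ⟨Q⟩ : Nonempty (Sylow q G) := inferInstance
    refine Q.not_dvd_index (hqi.trans (Subgroup.index_dvd_of_le ?_))
    refine le_iInf fun p x hx => Transfer.mem_pResidual_of_coprime ?_
    obtain ⟨j, hj⟩ := IsPGroup.iff_orderOf.mp Q.isPGroup' ⟨x, hx⟩
    rw [Subgroup.orderOf_mk] at hj
    rw [hj]
    exact ((Nat.coprime_primes hq (Nat.prime_of_mem_primeFactors p.2)).mpr
      fun he => hmem (he ▸ p.2)).pow_left j
  have hcopKi : (Nat.card K).Coprime K.index := Nat.coprime_of_dvd fun q hq hqK hqi => by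
    have hmem := hKidx q hq hqi
    exact (Nat.prime_of_mem_primeFactors hmem).ne_one
      (Nat.eq_one_of_dvd_coprimes hKm hqK (Nat.dvd_of_mem_primeFactors hmem))
  -- `K` is abelian
  have hKab : ∀ a ∈ K, ∀ b ∈ K, a * b = b * a := by
    intro a ha b hb
    have := Fintype.ofFinite K
    refine congrArg Subtype.val (CoprimeDegree.mul_comm_of_linear (G := K) (fun θ => ?_)
      ⟨a, ha⟩ ⟨b, hb⟩)
    obtain ⟨χ, hχ⟩ : ∃ χ : IrrCharacter G, classInner (indFun K (θ : K → ℂ)) (χ : G → ℂ) ≠ 0 := by
      by_contra! h0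
      have := congrFun (isCharacter_eq_sum_classInner
        (isCharacter_indFun K (irr_isCharacter θ))) 1
      simp [indFun_one_eq, h0, irr_apply_one_ne_zero θ, Subgroup.index_ne_zero_of_finite] at this
    rw [classInner_indFun_left K _ _ (irr_isClassFunction χ)] at hχ
    obtain ⟨d, -, hd, hdvd⟩ := irr_degree_dvd_card θ
    have hdχ := (S0887.result K _ χ.2 _ θ.2 (fun h0 => hχ (by rw [← conj_classInner, h0, map_zero]))
      _ d (charDegree_spec χ).2 hd).1
    rcases h χ with h1 | h1 <;> rw [h1] at hdχ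
    · rw [hd, Nat.eq_one_of_dvd_one hdχ, Nat.cast_one]
    · rw [hd, Nat.eq_one_of_dvd_coprimes hKm hdvd hdχ, Nat.cast_one]
  -- a complement
  obtain ⟨H, hH⟩ := Subgroup.exists_right_complement'_of_coprime hcopKi
  have hKH : K ⊓ H = ⊥ := disjoint_iff.mp hH.disjoint
  have hsup : K ⊔ H = ⊤ := hH.sup_eq_top
  have hbij : Function.Bijective ((QuotientGroup.mk' K).comp H.subtype) := by
    constructor
    · intro a b hab
      refine Subtype.ext (inv_mul_eq_one.mp (Subgroup.mem_bot.mp ?_))
      rw [← hKH]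
      exact ⟨(QuotientGroup.eq (s := K)).mp hab, H.mul_mem (H.inv_mem a.2) b.2⟩
    · intro x
      obtain ⟨g, rfl⟩ := QuotientGroup.mk_surjective x
      have hg : g ∈ H ⊔ K := by rw [sup_comm, hsup]; trivial
      obtain ⟨a, ha, b, hb, rfl⟩ := Subgroup.mem_sup_of_normal_right.mp hg
      exact ⟨⟨a, ha⟩, ((QuotientGroup.eq (s := K)).mpr (by simpa using hb))⟩
  set eH : H ≃* G ⧸ K := MulEquiv.ofBijective _ hbij
  let π : G →* H := eH.symm.toMonoidHom.comp (QuotientGroup.mk' K)
  have hπH : ∀ x : H, π x = x := fun x => eH.symm_apply_apply x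
  have hπK : ∀ g, g ∈ K → π g = 1 := fun g hg => by
    show eH.symm ((g : G ⧸ K)) = 1
    rw [(QuotientGroup.eq_one_iff g).mpr hg, map_one]
  have hπs : ∀ g : G, g * (π g : G)⁻¹ ∈ K := by
    intro g
    rw [← QuotientGroup.eq_one_iff, QuotientGroup.mk_mul, QuotientGroup.mk_inv, mul_inv_eq_one]
    exact (eH.apply_symm_apply (g : G ⧸ K)).symm
  have hπsurj : Function.Surjective π := fun x => ⟨x, hπH x⟩
  have hHdeg : DegreesOneOr m H := degreesOneOr_of_surjective h π hπsurj
  have hcommG : ∀ a b : G, ⁅π a, π b⁆ = π ⁅a, b⁆ := fun a b => (map_commutatorElement π a b).symm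
  -- the action of `H` on the dual of `K`
  let : CommGroup K := { (inferInstance : Group K) with
    mul_comm := fun a b => Subtype.ext (hKab a a.2 b b.2) }
  let φ : H →* MulAut (K →* ℂˣ) :=
    { toFun := fun x =>
        { toFun := fun l => l.comp (MulAut.conjNormal (x⁻¹ : G)).toMonoidHom
          invFun := fun l => l.comp (MulAut.conjNormal (x : G)).toMonoidHom
          left_inv := fun l => MonoidHom.ext fun k => congrArg l (Subtype.ext (by
            simp [mul_assoc]))
          right_inv := fun l => MonoidHom.ext fun k => congrArg l (Subtype.ext (by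
            simp [mul_assoc]))
          map_mul' := fun l l' => rfl }
      map_one' := MulEquiv.ext fun l => MonoidHom.ext fun k => congrArg l (Subtype.ext (by simp))
      map_mul' := fun a b => MulEquiv.ext fun l => MonoidHom.ext fun k => congrArg l (Subtype.ext (by
        simp [mul_assoc])) }
  have hφv : ∀ (x : H) (l : K →* ℂˣ) (k : K),
      φ x l k = l (MulAut.conjNormal ((x : G)⁻¹) k) := fun _ _ _ => rfl
  have hcard : Nat.card (K →* ℂˣ) = Nat.card K :=
    CommGroup.card_monoidHom_of_hasEnoughRootsOfUnity K ℂ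
  have : Finite (K →* ℂˣ) := Nat.finite_of_card_ne_zero (hcard.trans_ne Nat.card_pos.ne')
  have hcopH : (Nat.card H).Coprime (Nat.card (K →* ℂˣ)) := by
    rw [hcard, Nat.card_congr eH.toEquiv, ← Subgroup.index_eq_card]
    exact hcopKi.symm
  set C : Subgroup H := φ.ker with hC
  have hCcent : ∀ x : H, x ∈ C → ∀ k ∈ K, (x : G) * k = k * x := by
    intro x hx k hk
    have h1 : MulAut.conjNormal ((x : G)⁻¹) (⟨k, hk⟩ : K) = ⟨k, hk⟩ := by
      refine mul_inv_eq_one.mp ?_
      by_contra hne
      obtain ⟨l, hl⟩ := CommGroup.exists_apply_ne_one_of_hasEnoughRootsOfUnity K ℂ hne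
      refine hl ?_
      have h3 : l (MulAut.conjNormal ((x : G)⁻¹) ⟨k, hk⟩) = l ⟨k, hk⟩ := by
        rw [← hφv, show φ x = 1 from hx, MulAut.one_apply]
      rw [map_mul, h3, map_inv, mul_inv_cancel]
    have h2 := congrArg Subtype.val h1
    rw [MulAut.conjNormal_apply, inv_inv] at h2
    calc (x : G) * k = (x : G) * ((x : G)⁻¹ * k * x) := by rw [h2]
      _ = k * x := by group
  -- stabilisers
  let stab : (K →* ℂˣ) → Subgroup H := fun l =>
    { carrier := {x | φ x l = l}
      one_mem' := by simp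
      mul_mem' := fun {a b} ha hb => by
        show φ (a * b) l = l
        rw [map_mul, MulAut.mul_apply, hb, ha]
      inv_mem' := fun {a} ha => by
        show φ a⁻¹ l = l
        conv_lhs => rw [← ha]
        rw [← MulAut.mul_apply, ← map_mul, inv_mul_cancel, map_one, MulAut.one_apply] }
  have hstab : ∀ l, stab l ≠ ⊤ → (stab l).index = m ∧
      ∀ a ∈ stab l, ∀ b ∈ stab l, a * b = b * a := by
    intro l hl
    have key : ∀ θ : IrrCharacter (stab l),
        ((stab l).index : ℂ) * (θ : (stab l) → ℂ) 1 = (m : ℂ) := by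
      intro θ
      obtain ⟨χ, hχ⟩ := exists_irr_of_inertia K hKab π H.subtype hπH
        (fun g => ⟨fun h0 => by simpa [h0] using hπs g, hπK g⟩) l (stab l) (fun x => by
          constructor
          · intro hx k
            have h1 : φ x⁻¹ l = l := (stab l).inv_mem hx
            have h2 := hφv x⁻¹ l k
            rw [h1, Subgroup.coe_inv, inv_inv] at h2
            exact h2.symm
          · intro hall
            show φ x l = l
            refine MonoidHom.ext fun k => ?_
            rw [hφv, ← hall (MulAut.conjNormal ((x : G)⁻¹) k), Subgroup.subtype_apply,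
              ← MulAut.mul_apply, ← map_mul, mul_inv_cancel, map_one, MulAut.one_apply]) θ
      rcases degree_eq_of h χ with h1 | h1
      · exfalso
        obtain ⟨d, hd0, hd⟩ := isIrrCharacter_exists_degree_pos θ.2
        rw [hχ, hd, ← Nat.cast_mul, Nat.cast_eq_one, mul_eq_one] at h1
        exact hl (Subgroup.index_eq_one.mp h1.1)
      · rw [← hχ]; exact h1
    have htriv := key (trivialIrr _)
    rw [trivialIrr_apply, mul_one, Nat.cast_inj] at htriv
    refine ⟨htriv, fun a ha b hb => congrArg Subtype.val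
      (CoprimeDegree.mul_comm_of_linear (G := stab l) (fun θ => ?_) ⟨a, ha⟩ ⟨b, hb⟩)⟩
    have := key θ
    rw [htriv] at this
    exact (mul_eq_left₀ (Nat.cast_ne_zero.mpr hm0)).mp this
  have hHp : ∀ p ∈ m.primeFactors, m.primeFactors = {p} ∨ ∀ a b : H, a * b = b * a := by
    intro p hp
    by_cases hone : m.primeFactors = {p}
    · exact Or.inl hone
    right
    intro a b
    refine commutatorElement_eq_one_iff_mul_comm.mp ?_
    rw [← hπH a, ← hπH b, hcommG]
    refine hπK _ ?_
    simp only [hK, Subgroup.mem_iInf]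
    rintro ⟨q, hq⟩
    have := hpi q hq
    rw [← QuotientGroup.eq_one_iff]
    have hcomm := CoprimeDegree.mul_comm_of_linear (G := G ⧸ Cfsg.pResidual q G) (fun ξ => ?_)
      ((a : G) : G ⧸ Cfsg.pResidual q G) (b : G)
    · exact ((map_commutatorElement (QuotientGroup.mk' _) (a : G) (b : G)).trans
        (commutatorElement_eq_one_iff_mul_comm.mpr hcomm))
    · obtain ⟨d, -, hd, hdvd⟩ := irr_degree_dvd_card ξ
      rcases degree_eq_of (degreesOneOr_of_surjective h (QuotientGroup.mk' _)
        (QuotientGroup.mk'_surjective _)) ξ with h1 | h1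
      · exact h1
      exfalso
      rw [h1, Nat.cast_inj] at hd
      obtain ⟨e, he⟩ := Transfer.index_pResidual (G := G) (p := q)
      rw [← Subgroup.index_eq_card, he, ← hd] at hdvd
      obtain ⟨r, hr, hne⟩ : ∃ r ∈ m.primeFactors, r ≠ q := by
        by_contra! hcon
        refine hone (Finset.eq_singleton_iff_unique_mem.mpr ⟨hp, fun r hr => ?_⟩)
        rw [hcon r hr, hcon p hp]
      exact hne ((Nat.prime_dvd_prime_iff_eq (Nat.prime_of_mem_primeFactors hr) (hpi q hq).out).mp
        ((Nat.prime_of_mem_primeFactors hr).dvd_of_dvd_pow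
          ((Nat.dvd_of_mem_primeFactors hr).trans hdvd)))
  by_cases hCtop : C = ⊤
  · -- `H` centralises `K`
    have hcent : ∀ k ∈ K, ∀ x ∈ H, k * x = x * k := fun k hk x hx =>
      (hCcent ⟨x, hx⟩ (hCtop ▸ Subgroup.mem_top _) k hk).symm
    obtain ⟨p, hp⟩ := Nat.nonempty_primeFactors.mpr
      (lt_of_le_of_ne (Nat.one_le_iff_ne_zero.mpr hm0) (Ne.symm hm1))
    rcases hHp p hp with hone | hab
    swap
    · exfalso
      have : IsMulCommutative G := ⟨⟨fun a b => by
        have hG : ∀ g : G, g = (g * (π g : G)⁻¹) * (π g : G) := fun g =>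
          (inv_mul_cancel_right _ _).symm
        have c1 : Commute (a * (π a : G)⁻¹) (b * (π b : G)⁻¹) := hKab _ (hπs a) _ (hπs b)
        have c2 : Commute (a * (π a : G)⁻¹) (π b : G) := hcent _ (hπs a) _ (π b).2
        have c3 : Commute (π a : G) (b * (π b : G)⁻¹) := (hcent _ (hπs b) _ (π a).2).symm
        have c4 : Commute (π a : G) (π b : G) := congrArg Subtype.val (hab (π a) (π b))
        have := ((c1.mul_right c2).mul_left (c3.mul_right c4)).eq
        rw [← hG a, ← hG b] at this
        exact this⟩⟩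
      have := irr_apply_one_of_comm χ₀
      rw [(charDegree_spec χ₀).2, hχ₀, Nat.cast_eq_one] at this
      exact hm1 this
    have hp' := hpi p hp
    have hHpg : IsPGroup p H := by
      have hdvd : ∀ q : ℕ, q.Prime → q ∣ Nat.card H → q = p := fun q hq hqd => by
        rw [Nat.card_congr eH.toEquiv, ← Subgroup.index_eq_card] at hqd
        have := hKidx q hq hqd
        rwa [hone, Finset.mem_singleton] at this
      exact IsPGroup.of_card
        (Nat.eq_prime_pow_of_unique_prime_dvd Nat.card_pos.ne' fun {d} hd => hdvd d hd)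
    have hHn : H.Normal := ⟨fun x hx g => by
      obtain ⟨k, hk, y, hy, rfl⟩ := Subgroup.mem_sup_of_normal_left.mp
        (show g ∈ K ⊔ H by rw [hsup]; trivial)
      have h1 : y * x * y⁻¹ ∈ H := H.mul_mem (H.mul_mem hy hx) (H.inv_mem hy)
      have h2 := hcent k hk _ h1
      have : k * y * x * (k * y)⁻¹ = y * x * y⁻¹ := by
        calc k * y * x * (k * y)⁻¹ = k * (y * x * y⁻¹) * k⁻¹ := by group
          _ = _ := by rw [h2, mul_inv_cancel_right]
      rw [this]; exact h1⟩
    refine ⟨Or.inr ⟨p, m.factorization p, hp'.out, ?_, H, K, hHn, hKn, hHpg, hKab,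
      by rw [inf_comm, hKH], by rw [sup_comm, hsup], hcent⟩, ?_⟩
    · conv_lhs => rw [Nat.prod_primeFactors_pow_factorization hm0, hone, Finset.prod_singleton]
    · have := hHpg.isNilpotent
      have hd2 := derivedSeries_two_eq_bot_of_isNilpotent hHdeg
      have hle : commutator G ≤ (commutator H).map H.subtype := by
        rw [commutator_def, Subgroup.commutator_le]
        intro a _ b _
        have hG : ∀ g : G, ∃ k ∈ K, g = k * (π g : G) := fun g =>
          ⟨_, hπs g, (inv_mul_cancel_right _ _).symm⟩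
        obtain ⟨k, hk, ha⟩ := hG a
        obtain ⟨k', hk', hb⟩ := hG b
        refine ⟨⁅π a, π b⁆, Subgroup.commutator_mem_commutator (Subgroup.mem_top _)
          (Subgroup.mem_top _), ?_⟩
        rw [map_commutatorElement, Subgroup.subtype_apply, Subgroup.subtype_apply]
        have c1 : Commute k k' := hKab k hk k' hk'
        have c2 : Commute k (π b : G) := hcent k hk _ (π b).2
        have c3 : Commute k' (π a : G) := hcent k' hk' _ (π a).2
        have d2 : Commute k (π a : G) := hcent k hk _ (π a).2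
        have d3 : Commute k' (π b : G) := hcent k' hk' _ (π b).2
        conv_rhs => rw [ha, hb]
        rw [commutatorElement_def, commutatorElement_def]
        symm
        calc k * (π a : G) * (k' * (π b : G)) * (k * (π a : G))⁻¹ * (k' * (π b : G))⁻¹
            = k * ((π a : G) * k') * (π b : G) * (π a : G)⁻¹ * k⁻¹ * (π b : G)⁻¹ * k'⁻¹ := by group
          _ = k * k' * ((π a : G) * (π b : G) * (π a : G)⁻¹ * k⁻¹) * (π b : G)⁻¹ * k'⁻¹ := by
            rw [← c3.eq]; group
          _ = k * k' * k⁻¹ * ((π a : G) * (π b : G) * (π a : G)⁻¹ * (π b : G)⁻¹) * k'⁻¹ := by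
            have c5 : Commute k⁻¹ ((π a : G) * (π b : G) * (π a : G)⁻¹) :=
              ((d2.mul_right c2).mul_right d2.inv_right).inv_left
            rw [← c5.eq]; group
          _ = k' * ((π a : G) * (π b : G) * (π a : G)⁻¹ * (π b : G)⁻¹) * k'⁻¹ := by
            rw [c1.eq]; group
          _ = _ := by
            have c6 : Commute k' ((π a : G) * (π b : G) * (π a : G)⁻¹ * (π b : G)⁻¹) :=
              ((c3.mul_right d3).mul_right c3.inv_right).mul_right d3.inv_right
            rw [c6.eq, mul_inv_cancel_right]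
      intro a ha b hb
      obtain ⟨x, hx, rfl⟩ := hle ha
      obtain ⟨y, hy, rfl⟩ := hle hb
      have hxy : ⁅x, y⁆ = 1 := by
        rw [← Subgroup.mem_bot, ← hd2, derivedSeries_succ, derivedSeries_one]
        exact Subgroup.commutator_mem_commutator hx hy
      exact congrArg (H.subtype) (commutatorElement_eq_one_iff_mul_comm.mp hxy)
  · -- a faithful part
    obtain ⟨l, hl⟩ : ∃ l, stab l ≠ ⊤ := by
      by_contra! hall
      exact hCtop ((Subgroup.eq_top_iff' C).mpr fun x => MulEquiv.ext fun l =>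
        (hall l ▸ Subgroup.mem_top x : x ∈ stab l))
    obtain ⟨hTm, hTab⟩ := hstab l hl
    set T := stab l
    have hCle : ∀ l', C ≤ stab l' := fun l' x hx => by
      show φ x l' = l'
      rw [show φ x = 1 from hx, MulAut.one_apply]
    have hCn : C.Normal := MonoidHom.normal_ker φ
    obtain ⟨μ, hμ⟩ := exists_regular_point (φ.comp T.subtype) (fun a b => by
      simp only [MonoidHom.comp_apply, Subgroup.subtype_apply, ← map_mul]
      rw [hTab a a.2 b b.2]) (hcopH.coprime_dvd_left (Subgroup.card_subgroup_dvd_card T))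
    have hinf : stab μ ⊓ T = C :=
      le_antisymm (fun x hx => hμ ⟨x, hx.2⟩ hx.1) (le_inf (hCle μ) (hCle l))
    have hCidx : C.index ≤ m * m := by
      have h1 : C.index ≤ (stab μ).index * T.index := by
        rw [← hinf]
        exact Nat.le_of_dvd (Nat.mul_pos (Nat.pos_of_ne_zero Subgroup.index_ne_zero_of_finite)
          (Nat.pos_of_ne_zero Subgroup.index_ne_zero_of_finite)) (dvd_of_eq rfl) |>.trans'
          Subgroup.index_inf_le
      have h2 : (stab μ).index ≤ m := by
        by_cases ht : stab μ = ⊤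
        · rw [ht, Subgroup.index_top]; exact Nat.one_le_iff_ne_zero.mpr hm0
        · exact (hstab μ ht).1.le
      exact h1.trans (by rw [hTm]; exact Nat.mul_le_mul_right m h2)
    have hQ : ∀ a b : H, φ a * φ b = φ b * φ a := by
      intro a b
      rw [← map_mul, ← map_mul]
      rw [← mul_inv_eq_one, ← map_inv, ← map_mul]
      refine MonoidHom.mem_ker.mp ?_
      rw [← hC, ← QuotientGroup.eq_one_iff]
      have := CoprimeDegree.mul_comm_of_linear (G := H ⧸ C) (fun ξ => ?_) (a : H ⧸ C) (b : H ⧸ C)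
      · rw [QuotientGroup.mk_mul, QuotientGroup.mk_inv, mul_inv_eq_one, QuotientGroup.mk_mul,
          QuotientGroup.mk_mul]
        exact this
      · rcases degree_eq_of (degreesOneOr_of_surjective hHdeg (QuotientGroup.mk' C)
          (QuotientGroup.mk'_surjective C)) ξ with h1 | h1
        · exact h1
        exfalso
        have : Nontrivial (H ⧸ C) := QuotientGroup.nontrivial_iff.mpr hCtop
        have := Codegree.degree_sq_lt ξ h1
        rw [← Subgroup.index_eq_card] at this
        omega
    obtain ⟨ν, hν⟩ := exists_regular_point φ hQ hcopH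
    have hνC : stab ν = C := le_antisymm (fun x hx => hν x hx) (hCle ν)
    obtain ⟨hCm, hCab⟩ := hνC ▸ hstab ν (hνC ▸ hCtop)
    let A : Subgroup G := C.comap π
    have hAab : ∀ a ∈ A, ∀ b ∈ A, a * b = b * a := by
      intro a ha b hb
      have hG : ∀ g : G, g = (g * (π g : G)⁻¹) * (π g : G) := fun g =>
        (inv_mul_cancel_right _ _).symm
      have c1 : Commute (a * (π a : G)⁻¹) (b * (π b : G)⁻¹) := hKab _ (hπs a) _ (hπs b)
      have c2 : Commute (a * (π a : G)⁻¹) (π b : G) := (hCcent (π b) hb _ (hπs a)).symm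
      have c3 : Commute (π a : G) (b * (π b : G)⁻¹) := hCcent (π a) ha _ (hπs b)
      have c4 : Commute (π a : G) (π b : G) := congrArg Subtype.val (hCab (π a) ha (π b) hb)
      have := ((c1.mul_right c2).mul_left (c3.mul_right c4)).eq
      rw [← hG a, ← hG b] at this
      exact this
    refine ⟨Or.inl ⟨A, hCn.comap π, hAab,
      (Subgroup.index_comap_of_surjective C hπsurj).trans hCm⟩, fun a ha b hb => ?_⟩
    have hle : commutator G ≤ A := by
      rw [commutator_def, Subgroup.commutator_le]
      intro a _ b _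
      show π ⁅a, b⁆ ∈ C
      rw [← hcommG, hC, MonoidHom.mem_ker, map_commutatorElement]
      exact commutatorElement_eq_one_iff_mul_comm.mpr (hQ _ _)
    exact hAab a (hle ha) b (hle hb)

end Cfsg.Agent.Lib.Chars
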