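import Cfsg.Agent.Lib.Chars.Real
import Cfsg.Agent.Lib.GaloisChar.Basic
import Cfsg.Agent.Lib.Jordan.Blichfeldt

/-!
# The permutation lemma for power maps and Galois conjugation of characters.
-/

set_option autoImplicit false

namespace Cfsg.Agent.Lib.Chars

open scoped ComplexConjugate

universe u

variable {G : Type u} [Group G] [Finite G]

/-- Taking `k`-th powers, `k` prime to the order, is realised by a permutation of `Irr G`. -/
theorem exists_powPerm {k : ℕ} (hk : k.Coprime (Nat.card G)) :
    ∃ π : Equiv.Perm (IrrCharacter G),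
      ∀ (χ : IrrCharacter G) (g : G), (π χ : G → ℂ) g = (χ : G → ℂ) (g ^ k) := by
  obtain ⟨σ, hσ⟩ := GaloisChar.exists_ringEquiv_pow (Nat.card_pos (α := G)) hk
  refine ⟨Equiv.ofBijective (GaloisChar.galIrr σ.toRingHom)
    (Finite.injective_iff_bijective.mp (GaloisChar.galIrr_injective _)), fun χ g => ?_⟩
  obtain ⟨n, ρ, -, hρ⟩ := χ.2
  show σ.toRingHom ((χ : G → ℂ) g) = _
  rw [← hρ]
  refine Jordan.gal_char_eq_pow ρ _ k g fun ζ hζ => hσ ζ ?_
  obtain ⟨c, hc⟩ := orderOf_dvd_natCard g
  rw [hc, pow_mul, hζ, one_pow]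

theorem isConj_pow_of_isConj {g h : G} (hc : IsConj g h) (k : ℕ) : IsConj (g ^ k) (h ^ k) := by
  obtain ⟨c, rfl⟩ := isConj_iff.mp hc
  exact isConj_iff.mpr ⟨c, by rw [conj_pow]⟩

/-- The permutation lemma: as many characters as classes are fixed by a power map. -/
theorem card_fixed_pow {k : ℕ} (hk : k.Coprime (Nat.card G)) :
    Nat.card {χ : IrrCharacter G // ∀ g : G, (χ : G → ℂ) (g ^ k) = (χ : G → ℂ) g}
      = Nat.card {C : ConjClasses G // ∀ g : G, ConjClasses.mk g = C → IsConj g (g ^ k)} := by
  classical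
  cases nonempty_fintype G
  cases nonempty_fintype (ConjClasses G)
  obtain ⟨π, hπ⟩ := exists_powPerm (G := G) hk
  rw [← Nat.cast_inj (R := ℂ), ← mul_right_inj' (natCard_ne_zero (G := G))]
  have hA : ∀ χ : IrrCharacter G, ∑ g : G, (χ : G → ℂ) (g ^ k) * conj ((χ : G → ℂ) g)
      = (Nat.card G : ℂ) * if (∀ g : G, (χ : G → ℂ) (g ^ k) = (χ : G → ℂ) g) then 1 else 0 := by
    intro χ
    have h := classInner_irr (π χ) χ
    simp only [classInner, hπ] at h
    rw [inv_mul_eq_iff_eq_mul₀ natCard_ne_zero] at h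
    rw [h]
    congr 1
    simp only [Subtype.ext_iff, funext_iff, hπ]
  have hB : ∀ g : G, ∑ χ : IrrCharacter G, (χ : G → ℂ) (g ^ k) * conj ((χ : G → ℂ) g)
      = if IsConj g (g ^ k) then (Nat.card (Subgroup.centralizer ({g} : Set G)) : ℂ) else 0 := by
    intro g
    split
    · next hg =>
      rw [← column_orthogonality_of_isConj (IsConj.refl g)]
      exact Finset.sum_congr rfl fun χ _ => by
        rw [isClassFunction_apply_eq (irr_isClassFunction χ) hg]
    · next hg =>
      rw [← column_orthogonality_of_not_isConj (fun h : IsConj (g ^ k) g => hg h.symm)]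
  have h1 : (Nat.card G : ℂ) *
      (Nat.card {χ : IrrCharacter G // ∀ g : G, (χ : G → ℂ) (g ^ k) = (χ : G → ℂ) g} : ℂ)
      = ∑ g : G, ∑ χ : IrrCharacter G, (χ : G → ℂ) (g ^ k) * conj ((χ : G → ℂ) g) := by
    rw [Finset.sum_comm, Finset.sum_congr rfl fun χ _ => hA χ, ← Finset.mul_sum,
      Finset.sum_boole, Nat.card_eq_fintype_card (α := {χ : IrrCharacter G // _}),
      Fintype.card_subtype]
  rw [h1, Finset.sum_congr rfl fun g _ => hB g]
  have hclass : ∀ C : ConjClasses G,
      ∑ g ∈ Finset.univ.filter (fun g => ConjClasses.mk g = C),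
        (if IsConj g (g ^ k) then (Nat.card (Subgroup.centralizer ({g} : Set G)) : ℂ) else 0)
      = (Nat.card G : ℂ) *
        if (∀ g : G, ConjClasses.mk g = C → IsConj g (g ^ k)) then 1 else 0 := by
    intro C
    obtain ⟨g₀, rfl⟩ := ConjClasses.exists_rep C
    have htr : ∀ g, ConjClasses.mk g = ConjClasses.mk g₀ →
        (IsConj g (g ^ k) ↔ IsConj g₀ (g₀ ^ k)) := by
      intro g hg
      have hc := ConjClasses.mk_eq_mk_iff_isConj.mp hg
      exact ⟨fun h => hc.symm.trans (h.trans (isConj_pow_of_isConj hc k)),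
        fun h => hc.trans (h.trans (isConj_pow_of_isConj hc k).symm)⟩
    by_cases h : IsConj g₀ (g₀ ^ k)
    · rw [if_pos (fun g hg => (htr g hg).mpr h), mul_one, Finset.sum_congr rfl
        (g := fun _ => (Nat.card (Subgroup.centralizer ({g₀} : Set G)) : ℂ)) fun g hg => by
          rw [if_pos ((htr g (Finset.mem_filter.mp hg).2).mpr h),
            card_centralizer_eq_of_isConj
              (ConjClasses.mk_eq_mk_iff_isConj.mp (Finset.mem_filter.mp hg).2)]]
      rw [Finset.sum_const, nsmul_eq_mul, ← index_centralizer_mul_card g₀, Nat.cast_mul]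
      congr 2
      rw [← card_conjClass_eq_index, ← Fintype.card_subtype, Fintype.card_eq_nat_card]
      exact Nat.card_congr (Equiv.subtypeEquivRight fun x => by
        rw [ConjClasses.mk_eq_mk_iff_isConj, isConj_comm])
    · rw [if_neg (fun hh => h (hh g₀ rfl)), mul_zero]
      exact Finset.sum_eq_zero fun g hg =>
        if_neg fun hgg => h ((htr g (Finset.mem_filter.mp hg).2).mp hgg)
  rw [← Finset.sum_fiberwise Finset.univ ConjClasses.mk, Finset.sum_congr rfl fun C _ => hclass C,
    ← Finset.mul_sum, Finset.sum_boole, Nat.card_eq_fintype_card (α := {C : ConjClasses G // _}),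
    Fintype.card_subtype]

/-- A permutation all of whose orbits on a finset have size `e` divides invariant sums. -/
theorem dvd_sum_of_free {X : Type u} [Finite X] (π : Equiv.Perm X) {e : ℕ} (he : 0 < e)
    (hfix : ∀ (x : X) (i : ℕ), (π ^ i) x = x ↔ e ∣ i) [Fintype X] (f : X → ℕ)
    (hf : ∀ x, f (π x) = f x) : e ∣ ∑ x, f x := by
  classical
  cases nonempty_fintype (MulAction.orbitRel.Quotient (Subgroup.zpowers π) X)
  rw [← Finset.sum_fiberwise Finset.univ
    (Quotient.mk (MulAction.orbitRel (Subgroup.zpowers π) X)) f]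
  refine Finset.dvd_sum fun q _ => ?_
  induction q using Quotient.inductionOn with
  | _ x =>
    have hperiod : Function.minimalPeriod (π • ·) x = e :=
      Nat.dvd_antisymm
        (MulAction.pow_smul_eq_iff_minimalPeriod_dvd.mp ((hfix x e).mpr dvd_rfl))
        ((hfix x _).mp ((MulAction.pow_smul_eq_iff_minimalPeriod_dvd (a := π) (b := x)).mpr dvd_rfl))
    have hconst : ∀ g : Subgroup.zpowers π, f (g • x) = f x := by
      rintro ⟨g, hg⟩
      have hmem : π ∈ {g : Equiv.Perm X | ∀ y, f (g y) = f y} := hf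
      have : ∀ g ∈ Subgroup.zpowers π, ∀ y, f (g y) = f y := fun g hg => by
        obtain ⟨i, rfl⟩ := (mem_powers_iff_mem_zpowers.mpr hg)
        show ∀ y, f ((π ^ i) y) = f y
        clear hg
        induction i with
        | zero => intro y; rfl
        | succ i ih => intro y; rw [pow_succ', Equiv.Perm.mul_apply, hf, ih]
      exact this g hg x
    rw [Finset.sum_congr rfl (g := fun _ => f x) fun y hy => by
        obtain ⟨g, hg⟩ := MulAction.mem_orbit_iff.mp
          (MulAction.orbitRel_apply.mp (Quotient.exact (Finset.mem_filter.mp hy).2))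
        rw [← hg, hconst],
      Finset.sum_const, smul_eq_mul]
    refine dvd_mul_of_dvd_left (dvd_of_eq ?_) _
    rw [← hperiod, MulAction.minimalPeriod_eq_card, ← Set.toFinset_card]
    congr 1
    ext y
    simp only [Set.mem_toFinset, Finset.mem_filter, Finset.mem_univ, true_and]
    exact ⟨fun h => Quotient.sound (MulAction.orbitRel_apply.mpr h),
      fun h => MulAction.orbitRel_apply.mp (Quotient.exact h)⟩

end Cfsg.Agent.Lib.Chars
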