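import Cfsg.Agent.Lib.Chars.PowerPerm
import Cfsg.Agent.Lib.Chars.PResidualDegree
import Cfsg.Agent.Lib.CoprimeDegree
import Cfsg.Agent.Lib.PrimeDegreeSimple
import Cfsg.Agent.Lib.ClassSize.Cover

/-!
# Groups all of whose irreducible degrees are less than `p` have a normal abelian Sylow `p`-subgroup
-/

set_option autoImplicit false

namespace Cfsg.Agent.Lib.Chars

open scoped ComplexConjugate

universe u

/-- All irreducible degrees are less than `p`. -/
def DegreesLT (p : ℕ) (G : Type u) [Group G] : Prop :=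
  ∀ χ : IrrCharacter G, charDegree (χ : G → ℂ) < p

variable {G : Type u} [Group G]

theorem degreesLT_subgroup [Finite G] {p : ℕ} (h : DegreesLT p G) (H : Subgroup G) :
    DegreesLT p H := by
  classical
  cases nonempty_fintype G
  have := Fintype.ofFinite H
  intro θ
  obtain ⟨χ, hχ⟩ : ∃ χ : IrrCharacter G, classInner (indFun H (θ : H → ℂ)) (χ : G → ℂ) ≠ 0 := by
    by_contra! h0
    have := congrFun (isCharacter_eq_sum_classInner
      (isCharacter_indFun H (irr_isCharacter θ))) 1
    simp [indFun_one_eq, h0, irr_apply_one_ne_zero θ, Subgroup.index_ne_zero_of_finite] at this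
  rw [classInner_indFun_left H _ _ (irr_isClassFunction χ)] at hχ
  refine lt_of_le_of_lt (CoprimeDegree.constituent_degree_le (irr_isCharacter χ) H θ ?_
    (charDegree_spec χ).2 (charDegree_spec θ).2).1 (h χ)
  intro h0
  exact hχ (by rw [← conj_classInner, h0, map_zero])

theorem degreesLT_quotient [Finite G] {p : ℕ} (h : DegreesLT p G) (N : Subgroup G) [N.Normal] :
    DegreesLT p (G ⧸ N) := fun ψ => by
  have h1 : charDegree (inflate N ψ : G → ℂ) = charDegree (ψ : G ⧸ N → ℂ) := rfl
  exact h1 ▸ h (inflate N ψ)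

theorem mul_comm_of_degreesLT_of_isPGroup [Finite G] {p : ℕ} [hp : Fact p.Prime]
    (h : DegreesLT p G) (hG : IsPGroup p G) (a b : G) : a * b = b * a := by
  refine CoprimeDegree.mul_comm_of_linear (fun χ => ?_) a b
  obtain ⟨m, hm0, hm, hdvd⟩ := irr_degree_dvd_card χ
  obtain ⟨N, hN⟩ := IsPGroup.iff_card.mp hG
  rw [hN, Nat.dvd_prime_pow hp.out] at hdvd
  obtain ⟨k, -, rfl⟩ := hdvd
  have hlt := h χ
  rw [Codegree.charDegree_eq hm] at hlt
  rcases k with - | k
  · simpa using hm
  · exact absurd hlt (by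
      rw [pow_succ]
      have := Nat.one_le_pow k p hp.out.pos
      nlinarith [hp.out.pos])

theorem not_dvd_degree [Finite G] {p : ℕ} (h : DegreesLT p G) (χ : IrrCharacter G) :
    ¬ p ∣ charDegree (χ : G → ℂ) := fun hd =>
  absurd (Nat.le_of_dvd (charDegree_spec χ).1 hd) (not_le.mpr (h χ))

/-- The `p'`-normal case: a Sylow `p`-subgroup centralises a normal `p'`-complement. -/
theorem sylow_normal_of_complement [Finite G] {p : ℕ} [hp : Fact p.Prime] (h : DegreesLT p G)
    (P : Sylow p G) (N : Subgroup G) [N.Normal] (hN : ¬ p ∣ Nat.card N)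
    (hsup : (P : Subgroup G) ⊔ N = ⊤) : (P : Subgroup G).Normal := by
  classical
  cases nonempty_fintype G
  have := Fintype.ofFinite N
  have hidx : ∀ χ : IrrCharacter G, Nat.Coprime N.index (charDegree (χ : G → ℂ)) := by
    intro χ
    have h1 : N.index ∣ Nat.card (P : Subgroup G) := by
      rw [← Subgroup.relIndex_top_right, ← hsup, Subgroup.relIndex_sup_right]
      exact (N.subgroupOf (P : Subgroup G)).index_dvd_card
    obtain ⟨k, hk⟩ := IsPGroup.iff_card.mp P.isPGroup'
    rw [hk] at h1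
    exact Nat.Coprime.coprime_dvd_left h1
      (((Nat.Prime.coprime_iff_not_dvd hp.out).mpr (not_dvd_degree h χ)).pow_left k)
  -- all characters of `N` are invariant
  have hinv : ∀ (θ : IrrCharacter N) (g : G) (n : N),
      (θ : N → ℂ) (MulAut.conjNormal g n) = (θ : N → ℂ) n := by
    intro θ g n
    obtain ⟨χ, hχ⟩ : ∃ χ : IrrCharacter G, classInner (indFun N (θ : N → ℂ)) (χ : G → ℂ) ≠ 0 := by
      by_contra! h0
      have := congrFun (isCharacter_eq_sum_classInner
        (isCharacter_indFun N (irr_isCharacter θ))) 1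
      simp [indFun_one_eq, h0, irr_apply_one_ne_zero θ, Subgroup.index_ne_zero_of_finite] at this
    rw [classInner_indFun_left N _ _ (irr_isClassFunction χ)] at hχ
    have hirr := restrict_irr_of_coprime N χ (hidx χ)
    have heq : (⟨_, hirr⟩ : IrrCharacter N) = θ := by
      by_contra hne
      exact hχ (classInner_irr_of_ne (χ := θ) (ψ := ⟨_, hirr⟩) (Ne.symm hne))
    rw [← heq]
    show (χ : G → ℂ) (MulAut.conjNormal g n : N) = (χ : G → ℂ) n
    rw [MulAut.conjNormal_apply]
    exact irr_isClassFunction χ (n : G) g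
  -- hence `P` centralises `N`
  let C : Subgroup N := (Subgroup.centralizer ((P : Subgroup G) : Set G)).subgroupOf N
  have hC : C = ⊤ := by
    refine ClassSize.eq_top_of_forall_exists_conj_mem C fun n => ?_
    let X := {x : N // IsConj n x}
    let : MulAction P X :=
      { smul := fun g x => ⟨MulAut.conjNormal (g : G) x.1, x.2.trans (isConj_iff_irr.mpr fun θ =>
          (hinv θ g x.1).symm)⟩
        one_smul := fun x => Subtype.ext (by
          show MulAut.conjNormal ((1 : P) : G) x.1 = x.1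
          simp)
        mul_smul := fun a b x => Subtype.ext (by
          show MulAut.conjNormal ((a * b : P) : G) x.1
            = MulAut.conjNormal (a : G) (MulAut.conjNormal (b : G) x.1)
          simp [map_mul, MulAut.mul_apply]) }
    have hX : ¬ p ∣ Nat.card X := fun hd => hN (by
      have h1 : Nat.card X = (Subgroup.centralizer ({n} : Set N)).index := card_conjClass_eq_index n
      exact hd.trans (h1 ▸ Subgroup.index_dvd_card _))
    obtain ⟨⟨x, hx⟩⟩ : Nonempty (MulAction.fixedPoints P X) := by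
      have hmod := P.isPGroup'.card_modEq_card_fixedPoints X
      rw [← Finite.card_pos_iff]
      exact Nat.pos_of_ne_zero fun h0 => hX ((hmod.dvd_iff dvd_rfl).mpr (h0 ▸ dvd_zero p))
    obtain ⟨c, hc⟩ := isConj_iff.mp x.2
    refine ⟨c, ?_⟩
    rw [hc]
    refine Subgroup.mem_subgroupOf.mpr (Subgroup.mem_centralizer_iff.mpr fun g hg => ?_)
    have := congrArg (fun y : X => ((y.1 : N) : G)) (hx ⟨g, hg⟩)
    simp only [HSMul.hSMul, SMul.smul, MulAut.conjNormal_apply] at this
    exact mul_inv_eq_iff_eq_mul.mp this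
  have hNC : N ≤ Subgroup.centralizer ((P : Subgroup G) : Set G) :=
    Subgroup.subgroupOf_eq_top.mp hC
  refine Subgroup.normalizer_eq_top_iff.mp (top_le_iff.mp ?_)
  rw [← hsup]
  exact sup_le Subgroup.le_normalizer (hNC.trans (Subgroup.centralizer_le_normalizer _))

/-- A `p`-element of a group with a small nontrivial `p`-rational faithful character. -/
theorem rational_char_facts [Finite G] {p : ℕ} [hp : Fact p.Prime] {k : ℕ}
    (hk : ∀ l : ℕ, l.Coprime p → ∃ i : ℕ, l ≡ k ^ i [MOD p ^ 2])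
    (χ : IrrCharacter G) (hlt : charDegree (χ : G → ℂ) < p)
    (hfaith : ∀ g : G, (χ : G → ℂ) g = (χ : G → ℂ) 1 → g = 1)
    (hrat : ∀ g : G, (χ : G → ℂ) (g ^ k) = (χ : G → ℂ) g) :
    (∀ x : G, orderOf x = p → charDegree (χ : G → ℂ) = p - 1 ∧ (χ : G → ℂ) x = -1) ∧
      ∀ x : G, orderOf x ≠ p ^ 2 := by
  classical
  obtain ⟨hd0, hd1⟩ := charDegree_spec χ
  set d := charDegree (χ : G → ℂ) with hd
  have hrat' : ∀ (g : G) (i : ℕ), (χ : G → ℂ) (g ^ k ^ i) = (χ : G → ℂ) g := by
    intro g i
    induction i with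
    | zero => simp
    | succ i ih => rw [pow_succ, pow_mul, hrat, ih]
  have hconst : ∀ (x : G), orderOf x ∣ p ^ 2 → ∀ l : ℕ, l.Coprime p →
      (χ : G → ℂ) (x ^ l) = (χ : G → ℂ) x := by
    intro x hx l hl
    obtain ⟨i, hi⟩ := hk l hl
    rw [pow_eq_pow_iff_modEq.mpr (hi.of_dvd hx), hrat']
  have hone : ∀ x : G, orderOf x = p → d = p - 1 ∧ (χ : G → ℂ) x = -1 := by
    intro x hx
    set X := Subgroup.zpowers x with hX
    have := Fintype.ofFinite X
    have hcard : Nat.card X = p := by rw [hX, Nat.card_zpowers, hx]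
    obtain ⟨f, hf⟩ := isCharacter_classInner_nat (isCharacter_restrict X (irr_isCharacter χ))
      (irr_isCharacter (trivialIrr X))
    have hval : ∀ t : X, (χ : G → ℂ) t = if t = 1 then (d : ℂ) else (χ : G → ℂ) x := by
      intro t
      split
      · next ht => rw [ht, OneMemClass.coe_one, hd1]
      · next ht =>
        obtain ⟨j, hj⟩ := mem_powers_iff_mem_zpowers.2 t.2
        rw [← hj]
        refine hconst x (hx ▸ dvd_pow_self p two_ne_zero) j
          (((Nat.Prime.coprime_iff_not_dvd hp.out).2 fun hdv => ht ?_).symm)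
        apply Subtype.ext
        rw [← hj, Subgroup.coe_one]
        exact orderOf_dvd_iff_pow_eq_one.1 (hx ▸ hdv)
    simp only [classInner, trivialIrr_apply, map_one, mul_one] at hf
    rw [Finset.sum_congr rfl (fun t _ => hval t), ← Finset.add_sum_erase _ _ (Finset.mem_univ 1),
      if_pos rfl, Finset.sum_congr rfl (fun t ht => if_neg (Finset.ne_of_mem_erase ht)),
      Finset.sum_const, Finset.card_erase_of_mem (Finset.mem_univ _), Finset.card_univ,
      ← Nat.card_eq_fintype_card, hcard, nsmul_eq_mul,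
      inv_mul_eq_iff_eq_mul₀ (Nat.cast_ne_zero.2 hp.out.pos.ne')] at hf
    have hp1 : ((p - 1 : ℕ) : ℂ) ≠ 0 :=
      Nat.cast_ne_zero.2 (by have := hp.out.two_le; omega)
    obtain ⟨z, hz⟩ := exists_int_eq_of_isIntegral (irr_isIntegral χ x)
      (((p : ℚ) * f - d) / ((p - 1 : ℕ) : ℚ)) (by
        push_cast
        rw [eq_div_iff hp1]
        linear_combination hf)
    rw [hz] at hf
    have h2 : (d : ℤ) + ((p - 1 : ℕ) : ℤ) * z = (p : ℤ) * f := by exact_mod_cast hf
    rw [Nat.cast_sub hp.out.one_lt.le] at h2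
    push_cast at h2
    have hp2 : (2 : ℤ) ≤ p := by exact_mod_cast hp.out.two_le
    have hdp : (d : ℤ) + 1 ≤ p := by exact_mod_cast hlt
    have h3 : ((p : ℤ) - 1) * (z - f) = (f : ℤ) - d := by linear_combination h2
    have hne : z ≠ (d : ℤ) := by
      intro h
      have := hfaith x (by rw [hz, h, hd1]; simp)
      rw [this, orderOf_one] at hx
      exact hp.out.ne_one hx.symm
    have hfd : (f : ℤ) ≤ d := by
      have hb : z ≤ d := by
        have hn : ‖(χ : G → ℂ) x‖ ≤ (d : ℝ) := by
          obtain ⟨m, ρ, -, hρ⟩ := χ.2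
          have hm : d = Module.finrank ℂ (Fin m → ℂ) := by
            rw [← hρ, Representation.char_one] at hd1; exact_mod_cast hd1.symm
          rw [hm, ← hρ]
          exact norm_char_le ρ x
        rw [hz, Complex.norm_intCast] at hn
        have : |z| ≤ (d : ℤ) := by exact_mod_cast hn
        exact (abs_le.mp this).2
      nlinarith
    have h4 : z - f = -1 := by
      rcases lt_trichotomy (z - f) (-1) with h | h | h
      · nlinarith
      · exact h
      · rcases (show z - f = 0 ∨ 1 ≤ z - f by omega) with h' | h'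
        · rw [h', mul_zero] at h3
          exact absurd (by omega : z = (d : ℤ)) hne
        · nlinarith
    have h5 : (f : ℤ) = 0 ∧ (d : ℤ) = p - 1 := by
      rw [h4] at h3
      constructor <;> omega
    exact ⟨by omega, by rw [hz, show z = -1 by omega]; simp⟩
  refine ⟨hone, fun x hx => ?_⟩
  set X := Subgroup.zpowers x with hX
  have := Fintype.ofFinite X
  have hcard : Nat.card X = p ^ 2 := by rw [hX, Nat.card_zpowers, hx]
  have hy : orderOf (x ^ p) = p := by
    rw [orderOf_pow_of_dvd hp.out.ne_zero (hx ▸ dvd_pow_self p two_ne_zero), hx, sq,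
      Nat.mul_div_cancel _ hp.out.pos]
  obtain ⟨hdp, -⟩ := hone _ hy
  set Y : Finset X := Finset.univ.filter fun t : X => t ^ p = 1 with hY
  have hYc : Y.card = p := by
    refine le_antisymm ?_ ?_
    · exact IsCyclic.card_pow_eq_one_le hp.out.pos
    · have hy' : orderOf (⟨x ^ p, Subgroup.pow_mem _ (Subgroup.mem_zpowers x) p⟩ : X) = p := by
        rw [Subgroup.orderOf_mk, hy]
      conv_lhs => rw [← hy', ← Nat.card_zpowers]
      rw [Nat.card_eq_fintype_card, ← Finset.card_univ]
      refine Finset.card_le_card_of_injOn (fun t => (t.1 : X)) (fun t _ => ?_)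
        (fun t _ u _ h => Subtype.ext h)
      refine Finset.mem_filter.mpr ⟨Finset.mem_univ _, ?_⟩
      show (t.1 : X) ^ p = 1
      obtain ⟨i, hi⟩ := Subgroup.mem_zpowers_iff.mp t.2
      rw [← hi, ← zpow_natCast, ← zpow_mul, mul_comm, zpow_mul, zpow_natCast,
        show (⟨x ^ p, _⟩ : X) ^ p = 1 from orderOf_dvd_iff_pow_eq_one.mp (dvd_of_eq hy'), one_zpow]
  have hnotY : ∀ t ∈ Finset.univ \ Y, (χ : G → ℂ) (t : X) = (χ : G → ℂ) x := by
    intro t ht
    obtain ⟨j, hj⟩ := mem_powers_iff_mem_zpowers.2 t.2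
    rw [← hj]
    refine hconst x hx.dvd j (((Nat.Prime.coprime_iff_not_dvd hp.out).2 fun hdv => ?_).symm)
    refine (Finset.mem_sdiff.mp ht).2 (Finset.mem_filter.mpr ⟨Finset.mem_univ _, Subtype.ext ?_⟩)
    rw [Subgroup.coe_pow, ← hj, ← pow_mul, Subgroup.coe_one, ← orderOf_dvd_iff_pow_eq_one, hx, sq]
    exact Nat.mul_dvd_mul hdv dvd_rfl
  have hYv : ∀ t ∈ Y, (χ : G → ℂ) (t : X) = if t = 1 then (d : ℂ) else -1 := by
    intro t ht
    split
    · next h1 => rw [h1, OneMemClass.coe_one, hd1]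
    · next h1 =>
      refine (hone _ ?_).2
      exact orderOf_eq_prime (by
        rw [← Subgroup.coe_pow, (Finset.mem_filter.mp ht).2, Subgroup.coe_one])
        fun h => h1 (Subtype.ext h)
  have h1Y : (1 : X) ∈ Y := Finset.mem_filter.mpr ⟨Finset.mem_univ _, one_pow _⟩
  have hcompl : (Finset.univ \ Y).card = p * (p - 1) := by
    rw [Finset.card_sdiff_of_subset (Finset.subset_univ _), Finset.card_univ,
      ← Nat.card_eq_fintype_card, hcard, hYc, sq, Nat.mul_sub_one]
  have hp1 : ((p - 1 : ℕ) : ℂ) = (p : ℂ) - 1 := by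
    rw [Nat.cast_sub hp.out.one_lt.le, Nat.cast_one]
  have hp0 : (p : ℂ) ≠ 0 := Nat.cast_ne_zero.2 hp.out.pos.ne'
  have hp10 : (p : ℂ) - 1 ≠ 0 := hp1 ▸ Nat.cast_ne_zero.2 (by have := hp.out.two_le; omega)
  have hres := isCharacter_restrict X (irr_isCharacter χ)
  obtain ⟨f, hf⟩ := isCharacter_classInner_nat hres (irr_isCharacter (trivialIrr X))
  simp only [classInner, trivialIrr_apply, map_one, mul_one, hcard] at hf
  rw [← Finset.sum_sdiff (Finset.subset_univ Y), Finset.sum_congr rfl hnotY, Finset.sum_const,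
    Finset.sum_congr rfl hYv, ← Finset.add_sum_erase _ _ h1Y, if_pos rfl,
    Finset.sum_congr rfl (fun t ht => if_neg (Finset.ne_of_mem_erase ht)), Finset.sum_const,
    Finset.card_erase_of_mem h1Y, hYc, hcompl, nsmul_eq_mul, nsmul_eq_mul, Nat.cast_pow,
    inv_mul_eq_iff_eq_mul₀ (pow_ne_zero 2 hp0), hdp, Nat.cast_mul, hp1] at hf
  obtain ⟨z, hz⟩ := exists_int_eq_of_isIntegral (irr_isIntegral χ x)
    ((p : ℚ) * f / ((p - 1 : ℕ) : ℚ)) (by
      push_cast
      rw [hp1, eq_div_iff hp10]
      refine mul_left_cancel₀ hp0 ?_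
      linear_combination hf)
  obtain ⟨N, hN⟩ := isCharacter_classInner_nat hres hres
  simp only [classInner, hcard] at hN
  rw [← Finset.sum_sdiff (Finset.subset_univ Y),
    Finset.sum_congr rfl (g := fun _ => ((z : ℂ) * z)) (fun t ht => by
      rw [hnotY t ht, hz, map_intCast]), Finset.sum_const,
    ← Finset.add_sum_erase _ _ h1Y,
    Finset.sum_congr rfl (g := fun _ => (1 : ℂ)) (fun t ht => by
      rw [hYv t (Finset.mem_of_mem_erase ht), if_neg (Finset.ne_of_mem_erase ht)]; simp),
    Finset.sum_const, Finset.card_erase_of_mem h1Y, hYc, hcompl, hYv 1 h1Y, if_pos rfl,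
    Complex.conj_natCast, nsmul_eq_mul, nsmul_eq_mul, Nat.cast_pow, mul_one,
    inv_mul_eq_iff_eq_mul₀ (pow_ne_zero 2 hp0), hdp, Nat.cast_mul, hp1] at hN
  have h6 : ((p : ℤ) - 1) * (1 + z * z) = (p : ℤ) * N := by
    have : ((p : ℂ) - 1) * (1 + (z : ℂ) * z) = (p : ℂ) * N :=
      mul_left_cancel₀ hp0 (by linear_combination hN)
    exact_mod_cast this
  have h7 : ((p : ℤ) - 1) * z = (p : ℤ) * f := by
    have : ((p : ℂ) - 1) * (z : ℂ) = (p : ℂ) * f :=
      mul_left_cancel₀ hp0 (by rw [← hz]; linear_combination hf)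
    exact_mod_cast this
  have hprime : Prime (p : ℤ) := Nat.prime_iff_prime_int.mp hp.out
  have hnd : ¬ (p : ℤ) ∣ (p : ℤ) - 1 := fun hdv => hprime.not_dvd_one (by
    have := dvd_sub (dvd_refl (p : ℤ)) hdv
    simpa using this)
  have hz' : (p : ℤ) ∣ z := ((hprime.dvd_mul).mp ⟨_, h7⟩).resolve_left hnd
  have := ((hprime.dvd_mul).mp ⟨_, h6⟩).resolve_left hnd
  exact hprime.not_dvd_one (by
    have := dvd_sub this (hz'.mul_right z)
    simpa using this)

/-- A simple nonabelian group has an irreducible degree at least `p`, for `p` dividing its order. -/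
theorem not_degreesLT_of_simple [Finite G] [IsSimpleGroup G] {p : ℕ} [hp : Fact p.Prime]
    (hnc : ¬ ∀ a b : G, a * b = b * a) (hdvd : p ∣ Nat.card G) : ¬ DegreesLT p G := by
  classical
  intro h
  cases nonempty_fintype G
  have hp2 : p ≠ 2 := by
    intro hp2
    refine hnc (CoprimeDegree.mul_comm_of_linear fun χ => ?_)
    have := h χ
    have := (charDegree_spec χ).1
    rw [(charDegree_spec χ).2, show charDegree (χ : G → ℂ) = 1 by omega, Nat.cast_one]
  set T : IrrCharacter G := trivialIrr G with hT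
  have hfaith : ∀ χ : IrrCharacter G, χ ≠ T → ∀ g : G, (χ : G → ℂ) g = (χ : G → ℂ) 1 → g = 1 :=
    fun χ hχ => PrimeDegreeSimple.faithful hnc hχ
  -- the exponent
  obtain ⟨e, m, hm, hn⟩ :=
    Nat.exists_eq_pow_mul_and_not_dvd (Nat.card_pos (α := G)).ne' p hp.out.ne_one
  have he : e ≠ 0 := by
    rintro rfl
    rw [pow_zero, one_mul] at hn
    exact hm (hn ▸ hdvd)
  have hmp : Nat.Coprime m p := ((Nat.Prime.coprime_iff_not_dvd hp.out).mpr hm).symm
  have : IsCyclic (ZMod (p ^ 2))ˣ := ZMod.isCyclic_units_of_prime_pow p hp.out hp2 2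
  obtain ⟨γ, hγ⟩ := IsCyclic.exists_generator (α := (ZMod (p ^ 2))ˣ)
  have hcopm : Nat.Coprime (p ^ 2) m := (Nat.Coprime.pow_right 2 hmp).symm
  obtain ⟨k, hk1, hk2⟩ := Nat.chineseRemainder hcopm (γ : ZMod (p ^ 2)).val 1
  haveI : NeZero (p ^ 2) := ⟨pow_ne_zero 2 hp.out.ne_zero⟩
  have hkγ : (k : ZMod (p ^ 2)) = (γ : ZMod (p ^ 2)) := by
    rw [(ZMod.natCast_eq_natCast_iff _ _ _).mpr hk1, ZMod.natCast_zmod_val]
  have hkp : Nat.Coprime k p := by
    have : IsUnit (k : ZMod (p ^ 2)) := hkγ ▸ γ.isUnit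
    exact (Nat.coprime_pow_right_iff two_pos _ _).mp ((ZMod.isUnit_iff_coprime k (p ^ 2)).mp this)
  have hkm : Nat.Coprime k m := by
    have h1 := hk2.gcd_eq
    rw [Nat.gcd_one_left] at h1
    exact h1
  have hkn : Nat.Coprime k (Nat.card G) := hn ▸ (hkp.pow_right e).mul_right hkm
  have hkgen : ∀ l : ℕ, l.Coprime p → ∃ i : ℕ, l ≡ k ^ i [MOD p ^ 2] := by
    intro l hl
    obtain ⟨i, hi⟩ := mem_powers_iff_mem_zpowers.mpr (hγ (ZMod.unitOfCoprime l (hl.pow_right 2)))
    refine ⟨i, (ZMod.natCast_eq_natCast_iff _ _ _).mp ?_⟩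
    rw [Nat.cast_pow, hkγ, ← Units.val_pow_eq_pow_val]
    exact (congrArg Units.val hi).symm
  -- a p'-element
  obtain ⟨q, hq, hqp, hqG⟩ : ∃ q, q.Prime ∧ q ≠ p ∧ q ∣ m := by
    have hm1 : m ≠ 1 := by
      rintro rfl
      rw [mul_one] at hn
      exact hnc (mul_comm_of_degreesLT_of_isPGroup h (IsPGroup.of_card hn))
    obtain ⟨q, hq, hqm⟩ := Nat.exists_prime_and_dvd hm1
    exact ⟨q, hq, fun hqp => hm (hqp ▸ hqm), hqm⟩
  have hreg : ∀ g : G, orderOf g ∣ m → ∀ i : ℕ, g ^ k ^ i = g := by
    intro g hg i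
    conv_rhs => rw [← pow_one g]
    refine pow_eq_pow_iff_modEq.mpr (Nat.ModEq.of_dvd hg ?_)
    simpa using hk2.pow i
  have hcopi : ∀ i, Nat.Coprime (k ^ i) (Nat.card G) := fun i => hkn.pow_left i
  -- a rational character
  obtain ⟨χ₀, hχ₀T, hχ₀⟩ : ∃ χ : IrrCharacter G, χ ≠ T ∧
      ∀ g : G, (χ : G → ℂ) (g ^ k) = (χ : G → ℂ) g := by
    by_contra! hc
    have h1 : Nat.card {χ : IrrCharacter G // ∀ g : G, (χ : G → ℂ) (g ^ k) = (χ : G → ℂ) g} ≤ 1 := by
      rw [Finite.card_le_one_iff_subsingleton]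
      refine ⟨fun a b => Subtype.ext ?_⟩
      have : ∀ χ : {χ : IrrCharacter G // ∀ g : G, (χ : G → ℂ) (g ^ k) = (χ : G → ℂ) g}, χ.1 = T :=
        fun χ => by_contra fun hne => by
          obtain ⟨g, hg⟩ := hc χ.1 hne
          exact hg (χ.2 g)
      rw [this a, this b]
    rw [card_fixed_pow hkn, Finite.card_le_one_iff_subsingleton] at h1
    have : Fact q.Prime := ⟨hq⟩
    obtain ⟨y, hy⟩ := exists_prime_orderOf_dvd_card' (G := G) q (hn ▸ dvd_mul_of_dvd_right hqG _)
    have hfix : ∀ z : G, orderOf z ∣ m → ∀ g : G, ConjClasses.mk g = ConjClasses.mk z →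
        IsConj g (g ^ k) := by
      intro z hz g hg
      have hgz := ConjClasses.mk_eq_mk_iff_isConj.mp hg
      have := hreg g (by
        obtain ⟨c, rfl⟩ := isConj_iff.mp hgz.symm
        rwa [show c * z * c⁻¹ = MulAut.conj c z from rfl, MulEquiv.orderOf_eq]) 1
      rw [pow_one] at this
      rw [this]
    have he := h1.elim ⟨ConjClasses.mk 1, hfix 1 (by simp)⟩
      ⟨ConjClasses.mk y, hfix y (hy ▸ hqG)⟩
    have := isConj_one_right.mp (ConjClasses.mk_eq_mk_iff_isConj.mp (congrArg Subtype.val he))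
    rw [this, orderOf_one] at hy
    exact hq.ne_one hy.symm
  obtain ⟨hone, hsq⟩ := rational_char_facts hkgen χ₀ (h χ₀) (hfaith χ₀ hχ₀T) hχ₀
  obtain ⟨x, hx⟩ := exists_prime_orderOf_dvd_card' (G := G) p hdvd
  obtain ⟨hd₀, -⟩ := hone x hx
  -- p-elements have order p and the Sylow subgroup has order p
  obtain ⟨P⟩ : Nonempty (Sylow p G) := inferInstance
  have hexp : ∀ z : G, ∀ j, orderOf z = p ^ j → j ≤ 1 := by
    intro z j hz
    by_contra hj
    refine hsq (z ^ p ^ (j - 2)) ?_
    rw [orderOf_pow_of_dvd (pow_ne_zero _ hp.out.ne_zero) (hz ▸ pow_dvd_pow p (by omega)), hz,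
      Nat.pow_div (by omega) hp.out.pos, show j - (j - 2) = 2 by omega]
  have hPord : ∀ z ∈ (P : Subgroup G), z ≠ 1 → orderOf z = p := by
    intro z hz hz1
    obtain ⟨j, hj⟩ := IsPGroup.iff_orderOf.mp P.isPGroup' ⟨z, hz⟩
    rw [Subgroup.orderOf_mk] at hj
    have := hexp z j hj
    rcases (show j = 0 ∨ j = 1 by omega) with rfl | rfl
    · exact absurd (orderOf_eq_one_iff.mp (by simpa using hj)) hz1
    · simpa using hj
  have hPcard : Nat.card P = p := by
    have := Fintype.ofFinite P
    obtain ⟨f, hf⟩ := isCharacter_classInner_nat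
      (isCharacter_restrict (P : Subgroup G) (irr_isCharacter χ₀))
      (irr_isCharacter (trivialIrr (P : Subgroup G)))
    simp only [classInner, trivialIrr_apply, map_one, mul_one] at hf
    rw [← Finset.add_sum_erase _ _ (Finset.mem_univ 1), Finset.sum_congr rfl (g := fun _ => (-1 : ℂ))
      (fun (t : (P : Subgroup G)) ht => (hone t (hPord t t.2 fun h => (Finset.mem_erase.mp ht).1 (Subtype.ext h))).2),
      Finset.sum_const, Finset.card_erase_of_mem (Finset.mem_univ _), Finset.card_univ,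
      Fintype.card_eq_nat_card, OneMemClass.coe_one, (charDegree_spec χ₀).2, hd₀, nsmul_eq_mul,
      inv_mul_eq_iff_eq_mul₀ natCard_ne_zero, Nat.cast_sub hp.out.one_lt.le,
      Nat.cast_sub Nat.card_pos] at hf
    have h1 : ((p : ℤ) - 1) + ((Nat.card P : ℤ) - 1) * (-1) = (Nat.card P : ℤ) * f := by
      exact_mod_cast hf
    have hle : Nat.card P ≤ p := by
      have : (Nat.card P : ℤ) * f ≥ 0 := by positivity
      omega
    obtain ⟨j, hj⟩ := IsPGroup.iff_card.mp P.isPGroup'
    refine le_antisymm hle ?_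
    exact Nat.le_of_dvd Nat.card_pos (P.dvd_card_of_dvd_card hdvd)
  -- centralisers of elements of order p
  have hcent : ∀ x : G, orderOf x = p → ∀ y : G, y * x = x * y → ¬ p ∣ orderOf y → y = 1 := by
    intro x hx y hxy hyp
    by_contra hy1
    obtain ⟨nn, ρ, hρ, hc⟩ := χ₀.2
    have hym : orderOf y ∣ m := by
      refine (Nat.Coprime.pow_right e ((Nat.Prime.coprime_iff_not_dvd hp.out).mpr hyp).symm).dvd_of_dvd_mul_left ?_
      rw [← hn]
      exact orderOf_dvd_natCard y
    have hcomm : Commute x y := hxy.symm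
    have hcop : (orderOf x).Coprime (orderOf y) := hx ▸ (Nat.Prime.coprime_iff_not_dvd hp.out).mpr hyp
    set z := x * y with hz
    obtain ⟨ι, hι, B, μ, hμ, hB⟩ := exists_eigenbasis ρ z
    obtain ⟨a, ha⟩ : ∃ a, z ^ a = x := by
      obtain ⟨a, ha1, ha2⟩ := Nat.chineseRemainder hcop 1 0
      refine ⟨a, ?_⟩
      rw [hz, hcomm.mul_pow, pow_eq_pow_iff_modEq.mpr ha1, pow_eq_pow_iff_modEq.mpr ha2, pow_one,
        pow_zero, mul_one]
    obtain ⟨b, hb⟩ : ∃ b, z ^ b = y := by
      obtain ⟨b, hb1, hb2⟩ := Nat.chineseRemainder hcop 0 1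
      refine ⟨b, ?_⟩
      rw [hz, hcomm.mul_pow, pow_eq_pow_iff_modEq.mpr hb1, pow_eq_pow_iff_modEq.mpr hb2, pow_one,
        pow_zero, one_mul]
    have hBt : ∀ (t : ℕ) (i : ι), ρ (z ^ t) (B i) = μ i ^ t • B i := by
      intro t i
      induction t with
      | zero => simp
      | succ t ih =>
        rw [pow_succ', map_mul, Module.End.mul_apply, ih, map_smul, hB, smul_smul, ← pow_succ]
    have hchar : ∀ t : ℕ, (χ₀ : G → ℂ) (z ^ t) = ∑ i, μ i ^ t := fun t => by
      rw [← hc]; exact trace_eq_sum_of_eigenbasis _ B (fun i => μ i ^ t) (hBt t)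
    set ξ : ι → ℂ := fun i => μ i ^ a with hξ
    have hξp : ∀ i, ξ i ^ p = 1 := by
      intro i
      have h1 : ρ (x ^ p) (B i) = μ i ^ (a * p) • B i := by rw [← ha, ← pow_mul]; exact hBt _ i
      rw [← hx, pow_orderOf_eq_one, map_one, hx, Module.End.one_apply] at h1
      have h2 : (1 - μ i ^ (a * p)) • B i = 0 := by rw [sub_smul, one_smul, ← h1, sub_self]
      rw [hξ, ← pow_mul]
      exact (sub_eq_zero.mp ((smul_eq_zero.mp h2).resolve_right (B.ne_zero i))).symm
    have hS : ∀ (s l : ℕ), ¬ p ∣ l →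
        ∑ i, ξ i ^ l * (μ i ^ b) ^ s = (χ₀ : G → ℂ) (x * y ^ s) := by
      intro s l hl
      obtain ⟨i, hi⟩ := hkgen l (((Nat.Prime.coprime_iff_not_dvd hp.out).mpr hl).symm)
      have h1 : x ^ l * y ^ s = (x * y ^ s) ^ k ^ i := by
        rw [(hcomm.pow_right s).mul_pow,
          pow_eq_pow_iff_modEq.mpr (hi.of_dvd (hx ▸ dvd_pow_self p two_ne_zero))]
        congr 1
        exact (hreg _ ((orderOf_pow_dvd s).trans hym) i).symm
      have hrat' : ∀ (g : G) (i : ℕ), (χ₀ : G → ℂ) (g ^ k ^ i) = (χ₀ : G → ℂ) g := by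
        intro g i
        induction i with
        | zero => simp
        | succ i ih => rw [pow_succ, pow_mul, hχ₀, ih]
      calc ∑ i, ξ i ^ l * (μ i ^ b) ^ s = ∑ i, μ i ^ (a * l + b * s) :=
            Finset.sum_congr rfl fun i _ => by rw [hξ, pow_add, pow_mul, pow_mul]
        _ = _ := by
          rw [← hchar, pow_add, pow_mul, pow_mul, ha, hb, h1, hrat']
    have hF : ∀ (s : ℕ) (w : ℂ), w ^ p = 1 →
        (p : ℂ) * ∑ i ∈ Finset.univ.filter (fun i => ξ i = w), (μ i ^ b) ^ s
          = ∑ i, (μ i ^ b) ^ s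
            + (χ₀ : G → ℂ) (x * y ^ s) * if w = 1 then ((p : ℂ) - 1) else -1 := by
      intro s w hw
      have hw0 : w ≠ 0 := fun h0 => by rw [h0, zero_pow hp.out.ne_zero] at hw; exact zero_ne_one hw
      have hgeom : ∀ u : ℂ, u ^ p = 1 → ∑ l ∈ Finset.range p, u ^ l = if u = 1 then (p : ℂ) else 0 := by
        intro u hu
        split
        · next h1 => simp [h1]
        · next h1 => rw [geom_sum_eq h1, hu, sub_self, zero_div]
      have hrange : Finset.range p = insert 0 ((Finset.range p).erase 0) :=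
        (Finset.insert_erase (Finset.mem_range.mpr hp.out.pos)).symm
      have hl : ∀ l ∈ (Finset.range p).erase 0, ¬ p ∣ l := fun l hl hd => by
        obtain ⟨h0, hlp⟩ := Finset.mem_erase.mp hl
        exact absurd (Nat.le_of_dvd (Nat.pos_of_ne_zero h0) hd) (not_le.mpr (Finset.mem_range.mp hlp))
      calc (p : ℂ) * ∑ i ∈ Finset.univ.filter (fun i => ξ i = w), (μ i ^ b) ^ s
          = ∑ i, (∑ l ∈ Finset.range p, (ξ i / w) ^ l) * (μ i ^ b) ^ s := by
            rw [Finset.mul_sum, Finset.sum_filter]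
            refine Finset.sum_congr rfl fun i _ => ?_
            rw [hgeom _ (by rw [div_pow, hξp, hw, div_one])]
            simp only [div_eq_one_iff_eq hw0]
            split <;> simp
        _ = ∑ l ∈ Finset.range p, (w⁻¹) ^ l * ∑ i, ξ i ^ l * (μ i ^ b) ^ s := by
            simp only [Finset.sum_mul, Finset.mul_sum]
            rw [Finset.sum_comm]
            refine Finset.sum_congr rfl fun l _ => Finset.sum_congr rfl fun i _ => ?_
            rw [div_eq_mul_inv, mul_pow]; ring
        _ = _ := by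
            rw [hrange, Finset.sum_insert (Finset.notMem_erase 0 _),
              Finset.sum_congr rfl (s₁ := (Finset.range p).erase 0)
                (g := fun l => (w⁻¹) ^ l * (χ₀ : G → ℂ) (x * y ^ s))
                fun l hl' => by rw [hS s l (hl l hl')],
              ← Finset.sum_mul]
            have h2 := hgeom w⁻¹ (by rw [inv_pow, hw, inv_one])
            rw [hrange, Finset.sum_insert (Finset.notMem_erase 0 _), pow_zero] at h2
            simp only [pow_zero, one_mul]
            simp only [inv_eq_one] at h2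
            rw [mul_comm _ ((χ₀ : G → ℂ) _)]
            congr 2
            split at h2 <;> rename_i h3 <;> first
              | linear_combination h2
              | (subst h3; linear_combination h2)
              | (rw [if_pos h3]; linear_combination h2)
              | (rw [if_neg h3]; linear_combination h2)
    have hcard : (Fintype.card ι : ℂ) = (p : ℂ) - 1 := by
      have := hchar 0
      rw [pow_zero, (charDegree_spec χ₀).2, hd₀, Nat.cast_sub hp.out.one_lt.le, Nat.cast_one] at this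
      simpa using this.symm
    have hm1 : ∀ w : ℂ, w ^ p = 1 →
        ((Finset.univ.filter (fun i => ξ i = w)).card : ℂ) = if w = 1 then 0 else 1 := by
      intro w hw
      have := hF 0 w hw
      simp only [pow_zero, mul_one, Finset.sum_const, nsmul_eq_mul, Finset.card_univ, hcard,
        (hone x hx).2] at this
      refine mul_left_cancel₀ (Nat.cast_ne_zero.2 hp.out.pos.ne' : (p : ℂ) ≠ 0) ?_
      rw [this]
      split <;> ring
    -- the eigenvalues of `y` agree
    have hsame : ∀ i, (p : ℂ) * μ i ^ b = ∑ j, μ j ^ b - (χ₀ : G → ℂ) (x * y) := by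
      intro i
      have hne : ξ i ≠ 1 := by
        intro h1
        have := hm1 1 (one_pow p)
        rw [if_pos rfl, Nat.cast_eq_zero, Finset.card_eq_zero] at this
        exact Finset.notMem_empty i (this ▸ Finset.mem_filter.mpr ⟨Finset.mem_univ i, h1⟩)
      have h1 := hm1 (ξ i) (hξp i)
      rw [if_neg hne, Nat.cast_eq_one, Finset.card_eq_one] at h1
      obtain ⟨j, hj⟩ := h1
      have hij : i = j := by
        have : i ∈ Finset.univ.filter (fun i' => ξ i' = ξ i) :=
          Finset.mem_filter.mpr ⟨Finset.mem_univ i, rfl⟩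
        rwa [hj, Finset.mem_singleton] at this
      have h2 := hF 1 (ξ i) (hξp i)
      rw [hj, Finset.sum_singleton, if_neg hne, ← hij] at h2
      simp only [pow_one] at h2
      rw [h2]; ring
    set c : ℂ := (p : ℂ)⁻¹ * (∑ j, μ j ^ b - (χ₀ : G → ℂ) (x * y)) with hcdef
    have hscal : ρ y = c • (1 : Module.End ℂ (Fin nn → ℂ)) := by
      refine B.ext fun i => ?_
      rw [← hb, hBt, hcdef, ← hsame i, inv_mul_cancel_left₀
        (Nat.cast_ne_zero.2 hp.out.pos.ne' : (p : ℂ) ≠ 0)]
      simp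
    exact hy1 (PrimeDegreeSimple.eq_one_of_scalar hnc ρ
      (PrimeDegreeSimple.char_ne_one hχ₀T hc) hscal)
  -- the classes
  have hclass : ∀ g : G, orderOf g ∣ m ∨ orderOf g = p := by
    intro g
    obtain ⟨j, m', hm', hj⟩ :=
      Nat.exists_eq_pow_mul_and_not_dvd (orderOf_pos g).ne' p hp.out.ne_one
    rcases Nat.eq_zero_or_pos j with rfl | hj0
    · left
      rw [pow_zero, one_mul] at hj
      refine (Nat.Coprime.pow_right e ((Nat.Prime.coprime_iff_not_dvd hp.out).mpr (hj ▸ hm')).symm).dvd_of_dvd_mul_left ?_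
      rw [← hn]
      exact orderOf_dvd_natCard g
    · have hxo : orderOf (g ^ (p ^ (j - 1) * m')) = p := by
        have hd : p ^ (j - 1) * m' ∣ orderOf g := hj ▸ Nat.mul_dvd_mul_right (pow_dvd_pow p (by omega)) _
        have hm0 : m' ≠ 0 := fun h0 => hm' (h0 ▸ dvd_zero p)
        rw [orderOf_pow_of_dvd (mul_ne_zero (pow_ne_zero _ hp.out.ne_zero) hm0) hd, hj,
          Nat.mul_div_mul_right _ _ (Nat.pos_of_ne_zero hm0), Nat.pow_div (by omega) hp.out.pos,
          show j - (j - 1) = 1 by omega, pow_one]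
      have hy : orderOf (g ^ p ^ j) = m' := by
        rw [orderOf_pow_of_dvd (pow_ne_zero _ hp.out.ne_zero) (hj ▸ dvd_mul_right _ _), hj,
          Nat.mul_div_cancel_left _ (pow_pos hp.out.pos _)]
      have h1 := hcent _ hxo (g ^ p ^ j) ((Commute.refl g).pow_pow _ _).eq (hy.symm ▸ hm')
      rw [← orderOf_eq_one_iff, hy] at h1
      right
      rw [hj, h1, mul_one]
      have := hexp g j (by rw [hj, h1, mul_one])
      rw [show j = 1 by omega, pow_one]
  have hxpow : ∀ g : G, orderOf g = p → ∃ l : ℕ, IsConj g (x ^ l) := by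
    intro g hg
    obtain ⟨Q, hQ⟩ := (IsPGroup.of_card (n := 1)
      (show Nat.card (Subgroup.zpowers g) = p ^ 1 by rw [Nat.card_zpowers, hg, pow_one])).exists_le_sylow
    obtain ⟨R, hR⟩ := (IsPGroup.of_card (n := 1)
      (show Nat.card (Subgroup.zpowers x) = p ^ 1 by rw [Nat.card_zpowers, hx, pow_one])).exists_le_sylow
    obtain ⟨c, hc⟩ := MulAction.exists_smul_eq G Q R
    have hR' : Subgroup.zpowers x = (R : Subgroup G) := by
      refine Subgroup.eq_of_le_of_card_ge hR ?_
      rw [Nat.card_zpowers, hx]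
      exact (Nat.card_congr (R.equiv P).toEquiv).trans hPcard |>.le
    have hcg : c * g * c⁻¹ ∈ (R : Subgroup G) := by
      rw [← hc, Sylow.coe_subgroup_smul]
      exact Subgroup.smul_mem_pointwise_smul g (MulAut.conj c) _ (hQ (Subgroup.mem_zpowers g))
    rw [← hR'] at hcg
    obtain ⟨l, hl⟩ := mem_powers_iff_mem_zpowers.mpr hcg
    exact ⟨l, isConj_iff.mpr ⟨c, hl.symm⟩⟩
  -- the period of the class of `x`
  have hfix : ∀ i : ℕ, IsConj x (x ^ k ^ i) → ∀ g : G, IsConj g (g ^ k ^ i) := by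
    intro i hi g
    rcases hclass g with hg | hg
    · rw [hreg g hg]
    · obtain ⟨l, hl⟩ := hxpow g hg
      refine hl.trans (((isConj_pow_of_isConj hi l).trans ?_).trans (isConj_pow_of_isConj hl _).symm)
      rw [← pow_mul, ← pow_mul, mul_comm]
  have hper : IsConj x (x ^ k ^ (p - 1)) := by
    have h1 : k ^ (p - 1) ≡ 1 [MOD p] := by
      have := Nat.ModEq.pow_totient hkp
      rwa [Nat.totient_prime hp.out] at this
    rw [pow_eq_pow_iff_modEq.mpr (show k ^ (p - 1) ≡ 1 [MOD orderOf x] by rw [hx]; exact h1),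
      pow_one]
  have hex : ∃ i, 0 < i ∧ IsConj x (x ^ k ^ i) :=
    ⟨p - 1, by have := hp.out.two_le; omega, hper⟩
  set E := Nat.find hex with hE
  obtain ⟨hE0, hEx⟩ := Nat.find_spec hex
  rw [← hE] at hE0 hEx
  have hEmul : ∀ q : ℕ, IsConj x (x ^ k ^ (E * q)) := by
    intro q
    induction q with
    | zero => rw [Nat.mul_zero, pow_zero, pow_one]
    | succ q ih =>
      rw [Nat.mul_succ, pow_add, pow_mul]
      exact hEx.trans (isConj_pow_of_isConj ih _)
  have hEdvd : ∀ i, IsConj x (x ^ k ^ i) ↔ E ∣ i := by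
    intro i
    constructor
    · intro hi
      rw [Nat.dvd_iff_mod_eq_zero]
      by_contra h0
      refine Nat.find_min hex (Nat.mod_lt i hE0) ⟨Nat.pos_of_ne_zero h0, ?_⟩
      have h1 : IsConj (x ^ k ^ (i % E)) (x ^ k ^ i) := by
        have := isConj_pow_of_isConj (hEmul (i / E)) (k ^ (i % E))
        rwa [← pow_mul, ← pow_add, Nat.div_add_mod] at this
      exact hi.trans h1.symm
    · rintro ⟨q, rfl⟩
      exact hEmul q
  -- the characters
  obtain ⟨π, hπ⟩ := exists_powPerm (G := G) hkn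
  have hπi : ∀ (i : ℕ) (χ : IrrCharacter G) (g : G),
      ((π ^ i) χ : G → ℂ) g = (χ : G → ℂ) (g ^ k ^ i) := by
    intro i
    induction i with
    | zero => intro χ g; simp
    | succ i ih =>
      intro χ g
      rw [pow_succ', Equiv.Perm.mul_apply, hπ, ih, ← pow_mul, pow_succ']
  have hrat_of : ∀ χ : IrrCharacter G, ∀ i, ¬ E ∣ i → (π ^ i) χ = χ →
      ∀ g : G, (χ : G → ℂ) (g ^ k) = (χ : G → ℂ) g := by
    intro χ i hi hχ
    have hsub : ∀ ψ : IrrCharacter G, (∀ g : G, (ψ : G → ℂ) (g ^ k) = (ψ : G → ℂ) g) →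
        ∀ g : G, (ψ : G → ℂ) (g ^ k ^ i) = (ψ : G → ℂ) g := by
      intro ψ hψ g
      clear hi hχ
      induction i with
      | zero => simp
      | succ i ih => rw [pow_succ, pow_mul, hψ, ih]
    have hcl : Nat.card {C : ConjClasses G // ∀ g : G, ConjClasses.mk g = C → IsConj g (g ^ k ^ i)}
        ≤ Nat.card {C : ConjClasses G // ∀ g : G, ConjClasses.mk g = C → IsConj g (g ^ k)} := by
      refine Nat.card_le_card_of_injective (fun C => ⟨C.1, ?_⟩)
        (fun C D hCD => Subtype.ext (congrArg Subtype.val hCD :))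
      intro g hg
      rcases hclass g with ho | ho
      · have := hreg g ho 1
        rw [pow_one] at this
        rw [this]
      · exfalso
        refine hi ((hEdvd i).mp ?_)
        obtain ⟨l, hl⟩ := hxpow g ho
        have hlp : ¬ p ∣ l := by
          intro hd
          have : x ^ l = 1 := orderOf_dvd_iff_pow_eq_one.mp (hx.symm ▸ hd)
          rw [this, isConj_one_left] at hl
          rw [hl, orderOf_one] at ho
          exact hp.out.ne_one ho.symm
        obtain ⟨l', hl'⟩ : ∃ l', l * l' ≡ 1 [MOD p] := by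
          obtain ⟨y, -, hy⟩ := Nat.exists_mul_mod_eq_one_of_coprime
            ((Nat.Prime.coprime_iff_not_dvd hp.out).mpr hlp).symm hp.out.one_lt
          exact ⟨y, by rw [Nat.ModEq, hy, Nat.mod_eq_of_lt hp.out.one_lt]⟩
        have hxl : x ^ (l * l') = x := by
          rw [pow_eq_pow_iff_modEq.mpr (hx.symm ▸ hl'), pow_one]
        have h1 := (isConj_pow_of_isConj hl l').symm.trans
          ((isConj_pow_of_isConj (C.2 g hg) l').trans (isConj_pow_of_isConj
            (isConj_pow_of_isConj hl (k ^ i)) l'))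
        rw [← pow_mul, hxl, ← pow_mul, ← pow_mul, mul_comm (k ^ i) l', ← mul_assoc, pow_mul, hxl] at h1
        exact h1
    rw [← card_fixed_pow (hcopi i), ← card_fixed_pow hkn] at hcl
    have hbij := (Function.Injective.bijective_of_nat_card_le
      (f := fun ψ : {ψ : IrrCharacter G // ∀ g : G, (ψ : G → ℂ) (g ^ k) = (ψ : G → ℂ) g} =>
        (⟨ψ.1, hsub ψ.1 ψ.2⟩ :
          {ψ : IrrCharacter G // ∀ g : G, (ψ : G → ℂ) (g ^ k ^ i) = (ψ : G → ℂ) g}))
      (fun a b hab => Subtype.ext (congrArg Subtype.val hab :)) hcl).2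
    obtain ⟨⟨ψ, hψ⟩, hψe⟩ := hbij ⟨χ, fun g => by rw [← hπi, hχ]⟩
    obtain rfl : ψ = χ := congrArg Subtype.val hψe
    exact hψ
  have hallfix : ∀ i, E ∣ i → ∀ χ : IrrCharacter G, (π ^ i) χ = χ := fun i hi χ =>
    Subtype.ext (funext fun g => by
      rw [hπi]
      exact (isClassFunction_apply_eq (irr_isClassFunction χ) (hfix i ((hEdvd i).mpr hi) g)))
  -- non-rational characters contribute a multiple of `E`
  let X := {χ : IrrCharacter G // ¬ ∀ g : G, (χ : G → ℂ) (g ^ k) = (χ : G → ℂ) g}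
  have hπX : ∀ χ : IrrCharacter G, (¬ ∀ g : G, (χ : G → ℂ) (g ^ k) = (χ : G → ℂ) g) ↔
      ¬ ∀ g : G, (π χ : G → ℂ) (g ^ k) = (π χ : G → ℂ) g := by
    intro χ
    refine not_congr ⟨fun hh g => by rw [hπ, hπ, hh], fun hh g => ?_⟩
    have h' : π χ = χ := by
      have h2 : π (π χ) = π χ := Subtype.ext (funext fun g => by rw [hπ]; exact hh g)
      exact π.injective h2
    rw [← hπ, h']
  let πX : Equiv.Perm X := π.subtypePerm fun χ => (hπX χ).symm
  have hπXi : ∀ (i : ℕ) (χ : X), ((πX ^ i) χ : IrrCharacter G) = (π ^ i) χ.1 := by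
    intro i χ
    rw [Equiv.Perm.subtypePerm_pow]
    rfl
  have hsum : E ∣ ∑ χ : X, charDegree (χ.1 : G → ℂ) ^ 2 := by
    refine dvd_sum_of_free πX hE0 (fun χ i => ?_) _ fun χ => ?_
    · rw [← Subtype.coe_inj, hπXi]
      exact ⟨fun hh => by_contra fun hE => χ.2 (hrat_of _ i hE hh), fun hh => hallfix i hh _⟩
    · show charDegree ((π χ.1) : G → ℂ) ^ 2 = _
      simp only [charDegree, hπ, one_pow]
  have hrat_deg : ∀ χ : IrrCharacter G, χ ≠ T → (∀ g : G, (χ : G → ℂ) (g ^ k) = (χ : G → ℂ) g) →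
      charDegree (χ : G → ℂ) = p - 1 := fun χ hχ hr =>
    ((rational_char_facts hkgen χ (h χ) (hfaith χ hχ) hr).1 x hx).1
  have hdG : p - 1 ∣ Nat.card G := by
    obtain ⟨d, -, hd, hdd⟩ := irr_degree_dvd_card χ₀
    rw [← hd₀, Codegree.charDegree_eq hd]
    exact hdd
  have hEp : E ∣ p - 1 := (hEdvd _).mp hper
  have htot : ∑ χ : IrrCharacter G, charDegree (χ : G → ℂ) ^ 2 = Nat.card G := by
    have h' := sum_degree_sq (G := G)
    simp only [(charDegree_spec _).2] at h'
    exact_mod_cast h'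
  rw [← Finset.sum_filter_add_sum_filter_not _
    (fun χ : IrrCharacter G => ∀ g : G, (χ : G → ℂ) (g ^ k) = (χ : G → ℂ) g)] at htot
  have hTrat : ∀ g : G, (T : G → ℂ) (g ^ k) = (T : G → ℂ) g := fun g => rfl
  have hTd : charDegree (T : G → ℂ) = 1 := Codegree.charDegree_eq (by simp [hT])
  rw [← Finset.add_sum_erase _ _ (Finset.mem_filter.mpr ⟨Finset.mem_univ T, hTrat⟩),
    Finset.sum_congr rfl (g := fun _ => (p - 1) ^ 2) (fun χ hχ => by
      rw [hrat_deg χ (Finset.mem_erase.mp hχ).1
        (Finset.mem_filter.mp (Finset.mem_erase.mp hχ).2).2]),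
    Finset.sum_const, smul_eq_mul, hTd, one_pow, Finset.sum_subtype _
      (p := fun χ : IrrCharacter G => ¬ ∀ g : G, (χ : G → ℂ) (g ^ k) = (χ : G → ℂ) g)
      (fun χ => by simp)] at htot
  have hE1 : E = 1 := by
    refine Nat.eq_one_of_dvd_one ?_
    have h1 : E ∣ Nat.card G := hEp.trans hdG
    rw [← htot, Nat.dvd_add_left hsum, Nat.dvd_add_left
      (dvd_mul_of_dvd_right (hEp.trans (dvd_pow_self _ two_ne_zero)) _)] at h1
    exact h1
  have hnoX : IsEmpty X := ⟨fun χ => χ.2 fun g => by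
    have := hallfix 1 (hE1 ▸ dvd_rfl) χ.1
    have h2 := congrArg (fun ψ : IrrCharacter G => (ψ : G → ℂ) g) this
    simp only [pow_one, hπ] at h2
    exact h2⟩
  rw [Finset.univ_eq_empty (α := X), Finset.sum_empty, add_zero] at htot
  rw [← htot, Nat.dvd_add_left (dvd_mul_of_dvd_right (dvd_pow_self _ two_ne_zero) _),
    Nat.dvd_one] at hdG
  have := hp.out.two_le
  omega

/-- All degrees below `p` force a normal Sylow `p`-subgroup. -/
theorem sylow_normal_of_degreesLT {p : ℕ} [hp : Fact p.Prime] (n : ℕ) :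
    ∀ (G : Type u) [Group G] [Finite G], Nat.card G = n → DegreesLT p G →
      ∀ P : Sylow p G, (P : Subgroup G).Normal := by
  induction n using Nat.strong_induction_on with
  | _ n ih =>
    intro G _ _ hn h P
    by_cases hdvd : p ∣ Nat.card G
    swap
    · have : (P : Subgroup G) = ⊥ := Subgroup.card_eq_one.mp (by
        obtain ⟨j, hj⟩ := IsPGroup.iff_card.mp P.isPGroup'
        rcases j with - | j
        · simpa using hj
        · exact absurd ((dvd_pow_self p (Nat.succ_ne_zero j)).trans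
            (hj ▸ Subgroup.card_subgroup_dvd_card _)) hdvd)
      rw [this]; infer_instance
    have hsub : ∀ H : Subgroup G, H ≠ ⊤ → ∀ Q : Sylow p H, (Q : Subgroup H).Normal := fun H hH =>
      ih _ (hn ▸ lt_of_le_of_ne (Subgroup.card_le_card_group H)
        fun he => hH (Subgroup.eq_top_of_card_eq H he)) H rfl (degreesLT_subgroup h H)
    by_cases hs : ∃ N : Subgroup G, N.Normal ∧ N ≠ ⊥ ∧ N ≠ ⊤
    · obtain ⟨N, hNn, hN0, hN1⟩ := hs
      have := hNn
      have hquot : ∀ (R : Subgroup G) [R.Normal], R ≠ ⊥ →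
          ((P : Subgroup G) ⊔ R).Normal := by
        intro R _ hR
        have hlt : Nat.card (G ⧸ R) < Nat.card G := by
          have h1 := Subgroup.card_eq_card_quotient_mul_card_subgroup R
          have h2 : 1 < Nat.card R := (Subgroup.one_lt_card_iff_ne_bot R).2 hR
          have h3 : 0 < Nat.card (G ⧸ R) := Nat.card_pos
          rw [h1]; nlinarith
        let Pq : Sylow p (G ⧸ R) := P.mapSurjective (QuotientGroup.mk'_surjective R)
        have hn' := (ih _ (hn ▸ hlt) (G ⧸ R) rfl (degreesLT_quotient h R) Pq).comap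
          (QuotientGroup.mk' R)
        rwa [Sylow.coe_mapSurjective, Subgroup.comap_map_eq, QuotientGroup.ker_mk'] at hn'
      have hcharN : ∀ (M : Subgroup G), M.Normal → M ≠ ⊤ → ∀ Q : Sylow p M,
          ((Q : Subgroup M).map M.subtype).Normal := by
        intro M hM hMt Q
        have := hM
        have := Q.characteristic_of_normal (hsub M hMt Q)
        infer_instance
      by_cases hPN : (P : Subgroup G) ⊔ N = ⊤
      · obtain ⟨Q⟩ : Nonempty (Sylow p N) := inferInstance
        have hR := hcharN N hNn hN1 Q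
        by_cases hQ : (Q : Subgroup N) = ⊥
        · exact sylow_normal_of_complement h P N (fun hd => Q.ne_bot_of_dvd_card hd hQ) hPN
        · have hR0 : (Q : Subgroup N).map N.subtype ≠ ⊥ := fun he =>
            hQ ((Subgroup.map_eq_bot_iff_of_injective _ N.subtype_injective).mp he)
          have hle : (Q : Subgroup N).map N.subtype ≤ (P : Subgroup G) := by
            obtain ⟨P', hP'⟩ := (Q.isPGroup'.map N.subtype).exists_le_sylow
            obtain ⟨g, hg⟩ := MulAction.exists_smul_eq G P' P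
            rw [← hg, Sylow.coe_subgroup_smul]
            intro z hz
            rw [Subgroup.mem_pointwise_smul_iff_inv_smul_mem]
            refine hP' ?_
            simpa using hR.conj_mem z hz g⁻¹
          have := hquot _ hR0
          rwa [sup_eq_left.mpr hle] at this
      · have hn' := hquot N hN0
        have := hcharN _ hn' hPN (P.subtype le_sup_left)
        rwa [Sylow.coe_subtype, Subgroup.map_subgroupOf_eq_of_le le_sup_left] at this
    · push Not at hs
      have : Nontrivial G := Finite.one_lt_card_iff_nontrivial.mp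
        (lt_of_lt_of_le hp.out.one_lt (Nat.le_of_dvd Nat.card_pos hdvd))
      have : IsSimpleGroup G := ⟨fun N hN => by
        by_cases hN0 : N = ⊥
        · exact Or.inl hN0
        · exact Or.inr (hs N hN hN0)⟩
      by_cases hc : ∀ a b : G, a * b = b * a
      · exact ⟨fun a ha g => by rwa [hc g a, mul_inv_cancel_right]⟩
      · exact absurd h (not_degreesLT_of_simple hc hdvd)

end Cfsg.Agent.Lib.Chars
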