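import Cfsg.Agent.Lib.Chars.Broline

/-!
# Nilpotent length and the number of degrees (Garrison)
-/

set_option autoImplicit false

namespace Cfsg.Agent.Lib.Chars

universe u

/-- `B` modulo `A` is nilpotent. -/
def NilQuot {G : Type u} [Group G] (A B : Subgroup G) : Prop :=
  ∀ _h : (A.subgroupOf B).Normal, Group.IsNilpotent (B ⧸ A.subgroupOf B)

/-- The set of irreducible degrees. -/
def degreeSet (G : Type u) [Group G] : Set ℕ :=
  {d | ∃ χ : IrrCharacter G, charDegree (χ : G → ℂ) = d}

theorem degreeSet_finite (G : Type u) [Group G] [Finite G] : (degreeSet G).Finite :=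
  (Set.finite_range fun χ : IrrCharacter G => charDegree (χ : G → ℂ)).subset
    fun _ ⟨χ, h⟩ => ⟨χ, h⟩

theorem nilQuot_self {G : Type u} [Group G] (A : Subgroup G) : NilQuot A A := by
  intro h
  have : Subsingleton (A ⧸ A.subgroupOf A) := by
    rw [Subgroup.subgroupOf_self]; exact QuotientGroup.subsingleton_iff.mpr rfl
  infer_instance

theorem nilQuot_bot {G : Type u} [Group G] (B : Subgroup G) [Group.IsNilpotent B] :
    NilQuot ⊥ B := fun _ => inferInstance

theorem nilQuot_comap {G : Type u} [Group G] (F : Subgroup G) [F.Normal]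
    {A B : Subgroup (G ⧸ F)} [A.Normal] (h : NilQuot A B) :
    NilQuot (A.comap (QuotientGroup.mk' F)) (B.comap (QuotientGroup.mk' F)) := by
  intro hn
  have hAn : (A.subgroupOf B).Normal := inferInstance
  have := h hAn
  let π : B.comap (QuotientGroup.mk' F) →* B :=
    ((QuotientGroup.mk' F).comp (B.comap (QuotientGroup.mk' F)).subtype).codRestrict B fun x => x.2
  let f := QuotientGroup.map ((A.comap (QuotientGroup.mk' F)).subgroupOf
    (B.comap (QuotientGroup.mk' F))) (A.subgroupOf B) π (fun x hx => hx)
  have hinj : Function.Injective f := by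
    rw [injective_iff_map_eq_one]
    intro x hx
    obtain ⟨y, rfl⟩ := QuotientGroup.mk_surjective x
    exact (QuotientGroup.eq_one_iff y).mpr ((QuotientGroup.eq_one_iff (π y)).mp hx)
  exact (Group.isNilpotent_congr (MonoidHom.ofInjective hinj)).mpr inferInstance

/-- A solvable group has a normal series with nilpotent quotients of length the number of its
irreducible degrees. -/
theorem exists_nilpotent_series (G : Type u) [Group G] [Finite G] (hsolv : Group.IsSolvable G) :
    ∃ N : ℕ → Subgroup G, N 0 = ⊥ ∧ N (degreeSet G).ncard = ⊤ ∧ Monotone N ∧ (∀ i, (N i).Normal) ∧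
      ∀ i, NilQuot (N i) (N (i + 1)) := by
  classical
  induction hn : Nat.card G using Nat.strong_induction_on generalizing G with
  | _ n ih =>
    cases nonempty_fintype G
    have hne : (degreeSet G).Nonempty := ⟨_, trivialIrr G, rfl⟩
    have hpos : 0 < (degreeSet G).ncard := hne.ncard_pos (degreeSet_finite G)
    set F := fittingSubgroup G with hF
    have hFn : F.Normal := Fitting.fittingSubgroup_normal
    have hFnil : Group.IsNilpotent F := Fitting.isNilpotent_fittingSubgroup
    by_cases hFtop : F = ⊤
    · refine ⟨fun i => if i = 0 then ⊥ else ⊤, if_pos rfl, if_neg hpos.ne', ?_, ?_, ?_⟩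
      · intro a b hab
        show (if a = 0 then ⊥ else ⊤ : Subgroup G) ≤ if b = 0 then ⊥ else ⊤
        by_cases ha : a = 0
        · rw [if_pos ha]; exact bot_le
        · rw [if_neg ha, if_neg (by omega)]
      · intro i; by_cases hi : i = 0 <;> simp [hi] <;> infer_instance
      · intro i
        simp only [Nat.add_eq_zero_iff, one_ne_zero, and_false, if_false]
        by_cases hi : i = 0
        · rw [if_pos hi, ← hFtop]; exact nilQuot_bot F
        · rw [if_neg hi]; exact nilQuot_self ⊤
    have hFbot : F ≠ ⊥ := by
      intro hb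
      refine hFtop (top_le_iff.mp ?_)
      have h1 := Fitting.centralizer_fittingSubgroup_le (G := G)
      have h2 : Subgroup.centralizer (F : Set G) = ⊤ := by
        rw [Subgroup.eq_top_iff']; intro g
        rw [Subgroup.mem_centralizer_iff]
        intro y hy
        rw [hb, SetLike.mem_coe, Subgroup.mem_bot] at hy
        simp [hy]
      rw [← hF, h2] at h1
      exact h1
    have hQ : Group.IsSolvable (G ⧸ F) :=
      Group.isSolvable_of_surjective (QuotientGroup.mk'_surjective F)
    have hlt : Nat.card (G ⧸ F) < n := by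
      rw [← hn, Subgroup.card_eq_card_quotient_mul_card_subgroup F]
      exact lt_mul_of_one_lt_right Nat.card_pos
        (Finite.one_lt_card_iff_nontrivial.mpr ((Subgroup.nontrivial_iff_ne_bot F).mpr hFbot))
    obtain ⟨N', h0, htop, hmono, hnorm, hnil⟩ := ih _ hlt (G ⧸ F) hQ rfl
    -- the largest degree is lost in the quotient by the Fitting subgroup
    have hsub : (degreeSet (G ⧸ F)).ncard < (degreeSet G).ncard := by
      obtain ⟨b, ⟨χ, hχ⟩, hb⟩ := (degreeSet_finite G).exists_maximal hne
      refine Set.ncard_lt_ncard ⟨?_, fun hsup => ?_⟩ (degreeSet_finite G)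
      · rintro d ⟨ψ, rfl⟩
        exact ⟨inflate F ψ, rfl⟩
      obtain ⟨ψ, hψ⟩ := hsup ⟨χ, hχ⟩
      let χ' := inflate F ψ
      have hdeg : charDegree (χ' : G → ℂ) = b := hψ
      have := Codegree.kerIrr_normal χ'
      have hFK : F ≤ Codegree.kerIrr χ' := fun g hg => (Codegree.mem_kerIrr χ').mpr (by
        show (ψ : G ⧸ F → ℂ) (g : G ⧸ F) = (ψ : G ⧸ F → ℂ) ((1 : G) : G ⧸ F)
        rw [(QuotientGroup.eq_one_iff g).mpr hg, QuotientGroup.mk_one])
      obtain ⟨η, hη, -⟩ := exists_larger_degree_smaller_kernel χ' (Codegree.kerIrr χ')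
        (fun g => Codegree.mem_kerIrr χ') (by
          by_cases hle : Codegree.kerIrr χ' ≤ F
          · refine Or.inr ⟨le_antisymm hle hFK, Group.isSolvable_of_surjective
              (QuotientGroup.mk'_surjective _), fun he => hFtop (top_le_iff.mp (he ▸ hle))⟩
          · exact Or.inl hle)
      rw [hdeg] at hη
      have := hb ⟨η, rfl⟩ hη.le
      omega
    refine ⟨fun i => if i = 0 then ⊥ else (N' (i - 1)).comap (QuotientGroup.mk' F),
      if_pos rfl, ?_, ?_, ?_, ?_⟩
    · show (if (degreeSet G).ncard = 0 then ⊥ else (N' ((degreeSet G).ncard - 1)).comap _) = ⊤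
      have h1 : N' ((degreeSet G).ncard - 1) = ⊤ := top_le_iff.mp (htop.ge.trans (hmono (by omega :
        (degreeSet (G ⧸ F)).ncard ≤ (degreeSet G).ncard - 1)))
      rw [if_neg hpos.ne', h1, Subgroup.comap_top]
    · intro a b hab
      show (if a = 0 then ⊥ else (N' (a - 1)).comap (QuotientGroup.mk' F) : Subgroup G)
        ≤ if b = 0 then ⊥ else (N' (b - 1)).comap (QuotientGroup.mk' F)
      by_cases ha : a = 0
      · rw [if_pos ha]; exact bot_le
      · rw [if_neg ha, if_neg (by omega)]
        exact Subgroup.comap_mono (hmono (by omega))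
    · intro i
      by_cases hi : i = 0
      · simp only [hi, if_true]; infer_instance
      · simp only [hi, if_false]
        exact (hnorm _).comap _
    · intro i
      simp only [Nat.add_eq_zero_iff, one_ne_zero, and_false, if_false, Nat.add_sub_cancel]
      by_cases hi : i = 0
      · subst hi
        rw [if_pos rfl, h0, MonoidHom.comap_bot, QuotientGroup.ker_mk']
        exact nilQuot_bot F
      · rw [if_neg hi]
        have := hnorm (i - 1)
        have h := hnil (i - 1)
        rw [Nat.sub_add_cancel (Nat.one_le_iff_ne_zero.mpr hi)] at h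
        exact nilQuot_comap F h

end Cfsg.Agent.Lib.Chars
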