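import Cfsg.Agent.Lib.Chars.Broline

/-!
# Primitive characters of degree two
-/

set_option autoImplicit false

namespace Cfsg.Agent.Lib.Chars

/-- Each term of the class equation of a partition. -/
def partTerm (p : ℕ × ℕ) : ℚ := (1 - 1 / (p.1 : ℚ)) / p.2

theorem two_parts_eq {n a b : ℕ} (ha : 2 ≤ a) (hb : 2 ≤ b) (han : a < n) (hbn : 2 * b < n)
    (h : 1 / (n : ℚ) + ((1 - 1 / (a : ℚ)) / 1 + (1 - 1 / (b : ℚ)) / 2) = 1) : n = 12 := by
  have hn0 : (n : ℚ) ≠ 0 := by exact_mod_cast (by omega : n ≠ 0)
  have ha0 : (a : ℚ) ≠ 0 := by exact_mod_cast (by omega : a ≠ 0)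
  have hb0 : (b : ℚ) ≠ 0 := by exact_mod_cast (by omega : b ≠ 0)
  have h' : (2 * b * n + a * n : ℚ) = a * b * n + 2 * a * b := by
    field_simp at h
    linarith
  have h2 : 2 * b * n + a * n = a * b * n + 2 * a * b := by exact_mod_cast h'
  have ha3 : a ≤ 3 := by
    by_contra hlt
    nlinarith [Nat.mul_le_mul_left n hb, Nat.mul_le_mul hb (show 4 ≤ a by omega)]
  interval_cases a
  · omega
  · have : b ≤ 2 := by
      by_contra hlt
      nlinarith [Nat.mul_le_mul_left n (show 3 ≤ b by omega)]
    interval_cases b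
    omega

theorem three_parts_eq {n a b c : ℕ} (ha : 2 ≤ a) (hab : a ≤ b) (hbc : b ≤ c) (hcn : 2 * c < n)
    (h : 1 / (n : ℚ) + ((1 - 1 / (a : ℚ)) / 2 + (1 - 1 / (b : ℚ)) / 2 + (1 - 1 / (c : ℚ)) / 2) = 1) :
    n = 12 ∨ n = 24 ∨ n = 60 := by
  have hn0 : (n : ℚ) ≠ 0 := by exact_mod_cast (by omega : n ≠ 0)
  have ha0 : (a : ℚ) ≠ 0 := by exact_mod_cast (by omega : a ≠ 0)
  have hb0 : (b : ℚ) ≠ 0 := by exact_mod_cast (by omega : b ≠ 0)
  have hc0 : (c : ℚ) ≠ 0 := by exact_mod_cast (by omega : c ≠ 0)
  have h' : (b * c * n + a * c * n + a * b * n : ℚ) = a * b * c * n + 2 * a * b * c := by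
    field_simp at h
    linarith
  have h2 : b * c * n + a * c * n + a * b * n = a * b * c * n + 2 * a * b * c := by exact_mod_cast h'
  have habc : 0 < a * b * c := Nat.mul_pos (Nat.mul_pos (by omega) (by omega)) (by omega)
  have ha2 : a = 2 := by
    by_contra hne
    have : 3 ≤ a := by omega
    nlinarith [Nat.mul_le_mul_left (b * c * n) this, Nat.mul_le_mul_left (a * c * n) (this.trans hab),
      Nat.mul_le_mul_left (a * b * n) ((this.trans hab).trans hbc)]
  subst ha2
  have hb3 : b ≤ 3 := by
    by_contra hlt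
    nlinarith [Nat.mul_le_mul_left (c * n) (show 4 ≤ b by omega),
      Nat.mul_le_mul_left (b * n) (show 4 ≤ c by omega)]
  interval_cases b
  · have : c * n * 4 + 4 * n = c * n * 4 + 8 * c := by ring_nf; ring_nf at h2; omega
    omega
  · have h3 : 6 * n = c * n + 12 * c := by nlinarith
    have : c ≤ 5 := by
      by_contra hlt
      nlinarith [Nat.mul_le_mul_right n (show 6 ≤ c by omega)]
    interval_cases c <;> omega

/-- The numerical classification of the finite groups partitioned by maximal cyclic subgroups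
with normaliser index at most two. -/
theorem parts_eq {ι : Type*} [Fintype ι] {n : ℕ} (hn : 2 ≤ n) (v : ι → ℕ × ℕ)
    (hv : ∀ i, 2 ≤ (v i).1 ∧ ((v i).2 = 1 ∨ (v i).2 = 2) ∧ (v i).2 * (v i).1 < n)
    (h : 1 / (n : ℚ) + ∑ i, partTerm (v i) = 1) : n = 12 ∨ n = 24 ∨ n = 60 := by
  classical
  have hnq : (0 : ℚ) < 1 / (n : ℚ) := by positivity
  have hlow : ∀ i, (1 / 4 : ℚ) ≤ partTerm (v i) ∧ ((v i).2 = 1 → (1 / 2 : ℚ) ≤ partTerm (v i)) := by
    intro i
    obtain ⟨h1, h2, -⟩ := hv i
    have h3 : (1 : ℚ) / ((v i).1 : ℚ) ≤ 1 / 2 :=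
      one_div_le_one_div_of_le (by norm_num) (by exact_mod_cast h1)
    unfold partTerm
    rcases h2 with e | e <;> rw [e] <;> constructor
    all_goals push_cast
    all_goals first | linarith | (intro; linarith) | simp
  have hcard : Fintype.card ι ≤ 3 := by
    by_contra hlt
    have h1 : ((Fintype.card ι : ℚ)) * (1 / 4) ≤ ∑ i, partTerm (v i) := by
      have := Finset.card_nsmul_le_sum Finset.univ (fun i => partTerm (v i)) (1 / 4) fun i _ => (hlow i).1
      rwa [nsmul_eq_mul, Finset.card_univ] at this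
    have h2 : (4 : ℚ) ≤ (Fintype.card ι : ℚ) := by exact_mod_cast (by omega : 4 ≤ Fintype.card ι)
    linarith
  obtain ⟨k, hk⟩ : ∃ k, k = Fintype.card ι := ⟨_, rfl⟩
  let e : ι ≃ Fin k := (Fintype.equivFin ι).trans (finCongr hk.symm)
  obtain ⟨w, hw⟩ : ∃ w : Fin k → ℕ × ℕ, w = v ∘ e.symm := ⟨_, rfl⟩
  have hsum : ∑ i, partTerm (v i) = ∑ j, partTerm (w j) := by
    rw [hw]; exact Fintype.sum_equiv e _ _ fun i => by simp
  rw [hsum] at h
  have hwv : ∀ j, 2 ≤ (w j).1 ∧ ((w j).2 = 1 ∨ (w j).2 = 2) ∧ (w j).2 * (w j).1 < n :=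
    fun j => hw ▸ hv (e.symm j)
  have hwl : ∀ j, (1 / 4 : ℚ) ≤ partTerm (w j) ∧ ((w j).2 = 1 → (1 / 2 : ℚ) ≤ partTerm (w j)) :=
    fun j => hw ▸ hlow (e.symm j)
  have hinv : ∀ m : ℕ, 0 < m → m < n → 1 / (n : ℚ) < 1 / (m : ℚ) := fun m hm hmn =>
    one_div_lt_one_div_of_lt (by exact_mod_cast hm) (by exact_mod_cast hmn)
  rcases (by omega : k = 0 ∨ k = 1 ∨ k = 2 ∨ k = 3) with rfl | rfl | rfl | rfl
  · rw [Fin.sum_univ_zero, add_zero, div_eq_one_iff_eq (by exact_mod_cast (by omega : n ≠ 0))] at h
    have h1 : (1 : ℕ) = n := by exact_mod_cast h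
    omega
  · exfalso
    rw [Fin.sum_univ_one] at h
    obtain ⟨h1, h2, h3⟩ := hwv 0
    unfold partTerm at h
    have hpos : (0 : ℚ) < 1 / ((w 0).1 : ℚ) :=
      one_div_pos.mpr (by exact_mod_cast (by omega : 0 < (w 0).1))
    rcases h2 with e | e <;> rw [e] at h h3 <;> push_cast at h
    · have := hinv (w 0).1 (by omega) (by omega)
      linarith
    · have : (1 : ℚ) / (n : ℚ) ≤ 1 / 2 :=
        one_div_le_one_div_of_le (by norm_num) (by exact_mod_cast hn)
      linarith
  · rw [Fin.sum_univ_two] at h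
    obtain ⟨a1, a2, a3⟩ := hwv 0
    obtain ⟨b1, b2, b3⟩ := hwv 1
    rcases a2 with ea | ea <;> rcases b2 with eb | eb
    · have := (hwl 0).2 ea
      have := (hwl 1).2 eb
      linarith
    · rw [partTerm, partTerm, ea, eb] at h
      push_cast at h
      exact Or.inl (two_parts_eq a1 b1 (by simpa [ea] using a3) (by simpa [eb] using b3) h)
    · rw [partTerm, partTerm, ea, eb, add_comm ((1 - 1 / ((w 0).1 : ℚ)) / _)] at h
      push_cast at h
      exact Or.inl (two_parts_eq b1 a1 (by simpa [eb] using b3) (by simpa [ea] using a3) h)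
    · exfalso
      rw [partTerm, partTerm, ea, eb] at h
      push_cast at h
      rw [ea] at a3; rw [eb] at b3
      have h1 := hinv (2 * (w 0).1) (by omega) a3
      have h2 := hinv (2 * (w 1).1) (by omega) b3
      have h3 : ∀ m : ℕ, 1 / ((2 * m : ℕ) : ℚ) = 1 / (m : ℚ) / 2 := fun m => by
        push_cast; rw [div_div, mul_comm]
      rw [h3] at h1 h2
      linarith
  · rw [Fin.sum_univ_three] at h
    have hall : ∀ j, (w j).2 = 2 := by
      intro j
      refine (hwv j).2.1.resolve_left fun ej => ?_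
      have := (hwl j).2 ej
      have := (hwl 0).1
      have := (hwl 1).1
      have := (hwl 2).1
      rcases (show j = 0 ∨ j = 1 ∨ j = 2 by omega) with rfl | rfl | rfl <;> linarith
    simp only [partTerm, hall] at h
    push_cast at h
    have hb : ∀ j, 2 * (w j).1 < n := fun j => by simpa [hall] using (hwv j).2.2
    have h2 : ∀ j, 2 ≤ (w j).1 := fun j => (hwv j).1
    rcases le_total (w 0).1 (w 1).1 with p | p <;> rcases le_total (w 1).1 (w 2).1 with q | q <;>
      rcases le_total (w 0).1 (w 2).1 with r | r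
    all_goals first
      | exact three_parts_eq (h2 0) p q (hb 2) (by linarith)
      | exact three_parts_eq (h2 0) r q (hb 1) (by linarith)
      | exact three_parts_eq (h2 1) p r (hb 2) (by linarith)
      | exact three_parts_eq (h2 1) q r (hb 0) (by linarith)
      | exact three_parts_eq (h2 2) r p (hb 1) (by linarith)
      | exact three_parts_eq (h2 2) q p (hb 0) (by linarith)

universe u

variable {G : Type u} [Group G]

/-- The data attached to an element with two distinct eigenvalues in a faithful representation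
on a plane. -/
theorem centralizer_facts [Finite G] (ρ : Representation ℂ G (Fin 2 → ℂ)) [ρ.IsIrreducible]
    (hfaith : ∀ g, ρ g = 1 → g = 1) {g : G} (hg : g ∉ Subgroup.center G) :
    (∀ x ∈ Subgroup.centralizer {g}, ∀ y ∈ Subgroup.centralizer {g}, x * y = y * x) ∧
      Nat.card {x : G // x ∈ Subgroup.centralizer {g} ∧ ∃ y, y * g * y⁻¹ = x} ≤ 2 := by
  classical
  cases nonempty_fintype G
  obtain ⟨ι, hι, b, μ, -, hb⟩ := exists_eigenbasis ρ g
  have hcard : Fintype.card ι = 2 := by
    rw [← Module.finrank_eq_card_basis b, Module.finrank_fintype_fun_eq_card, Fintype.card_fin]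
  have hinj : Function.Injective ρ := fun x y hxy => inv_mul_eq_one.mp (hfaith _ (by
    rw [map_mul, ← hxy, ← map_mul, inv_mul_cancel, map_one])) 
  have hdist : Function.Injective μ := by
    intro i j hij
    by_contra hne
    refine hg (Subgroup.mem_center_iff.mpr fun x => hinj ?_)
    have huniv : (Finset.univ : Finset ι) = {i, j} :=
      (Finset.eq_univ_of_card _ (by rw [Finset.card_pair hne, hcard])).symm
    have hsc : ρ g = μ i • (1 : Module.End ℂ (Fin 2 → ℂ)) := b.ext fun k => by
      rw [hb, LinearMap.smul_apply, Module.End.one_apply]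
      have hk : k ∈ ({i, j} : Finset ι) := huniv ▸ Finset.mem_univ k
      rcases Finset.mem_insert.mp hk with rfl | hk
      · rfl
      · rw [Finset.mem_singleton] at hk; rw [hk, hij]
    rw [map_mul, map_mul, hsc, mul_smul_comm, smul_mul_assoc, mul_one, one_mul]
  have hdiag : ∀ x ∈ Subgroup.centralizer {g}, ∃ ν : ι → ℂ, ∀ i, ρ x (b i) = ν i • b i := by
    intro x hx
    refine ⟨fun i => b.repr (ρ x (b i)) i, fun i => ?_⟩
    have hc : ρ g (ρ x (b i)) = μ i • ρ x (b i) := by
      rw [← Module.End.mul_apply, ← map_mul, ← Subgroup.mem_centralizer_singleton_iff.mp hx,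
        map_mul, Module.End.mul_apply, hb, map_smul]
    have hzero : ∀ k, k ≠ i → b.repr (ρ x (b i)) k = 0 := by
      intro k hk
      have h1 : ρ g (ρ x (b i)) = ∑ j, (b.repr (ρ x (b i)) j * μ j) • b j := by
        conv_lhs => rw [← b.sum_repr (ρ x (b i))]
        rw [map_sum]
        exact Finset.sum_congr rfl fun j _ => by rw [map_smul, hb, smul_smul]
      have h2 := congrArg (fun v => b.repr v k) (h1.symm.trans hc)
      simp only [Module.Basis.repr_sum_self, map_smul, Finsupp.smul_apply, smul_eq_mul] at h2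
      have h3 : b.repr (ρ x (b i)) k * (μ k - μ i) = 0 := by linear_combination h2
      exact (mul_eq_zero.mp h3).resolve_right (sub_ne_zero.mpr fun he => hk (hdist he))
    conv_lhs => rw [← b.sum_repr (ρ x (b i))]
    rw [Finset.sum_eq_single i (fun k _ hk => by rw [hzero k hk, zero_smul])
      (fun h => absurd (Finset.mem_univ i) h)]
  refine ⟨fun x hx y hy => hinj ?_, ?_⟩
  · obtain ⟨ν, hν⟩ := hdiag x hx
    obtain ⟨τ, hτ⟩ := hdiag y hy
    refine b.ext fun i => ?_
    rw [map_mul, map_mul, Module.End.mul_apply, Module.End.mul_apply, hτ, map_smul, hν, map_smul,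
      hτ, smul_comm]
  · obtain ⟨i, j, hne, huniv⟩ := Finset.card_eq_two.mp ((Finset.card_univ (α := ι)).trans hcard)
    have hval : ∀ (x : G) (ν : ι → ℂ), (∀ k, ρ x (b k) = ν k • b k) →
        ρ.character x = ν i + ν j ∧ ρ.character (x * x) = ν i ^ 2 + ν j ^ 2 := by
      intro x ν hν
      have hs : ∀ f : ι → ℂ, ∑ k, f k = f i + f j := fun f => by rw [huniv, Finset.sum_pair hne]
      refine ⟨?_, ?_⟩
      · rw [Representation.character, trace_eq_sum_of_eigenbasis _ b ν hν, hs]
      · rw [Representation.character, trace_eq_sum_of_eigenbasis _ b (fun k => ν k ^ 2) (fun k => ?_), hs]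
        rw [map_mul, Module.End.mul_apply, hν, map_smul, hν, smul_smul, pow_two]
    have key : ∀ x : {x : G // x ∈ Subgroup.centralizer {g} ∧ ∃ y, y * g * y⁻¹ = x},
        ∃ s : Bool, ∀ k, ρ x.1 (b k) =
          (if s then μ k else if k = i then μ j else μ i) • b k := by
      rintro ⟨x, hx, y, rfl⟩
      obtain ⟨ν, hν⟩ := hdiag _ hx
      obtain ⟨h1, h2⟩ := hval _ ν hν
      obtain ⟨g1, g2⟩ := hval g μ hb
      rw [ρ.char_conj g y, g1] at h1
      rw [show y * g * y⁻¹ * (y * g * y⁻¹) = y * (g * g) * y⁻¹ by group, ρ.char_conj, g2] at h2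
      have hprod : (ν i - μ i) * (ν i - μ j) = 0 := by
        linear_combination ((μ i + μ j + ν i + ν j) / 2 - ν i) * h1 - (1 / 2 : ℂ) * h2
      have hk : ∀ k : ι, k = i ∨ k = j := fun k => by
        have := huniv ▸ Finset.mem_univ k
        simpa using this
      rcases mul_eq_zero.mp hprod with e | e
      · refine ⟨true, fun k => ?_⟩
        rw [hν, if_pos rfl]
        rcases hk k with rfl | rfl
        · rw [sub_eq_zero.mp e]
        · congr 1; linear_combination h1.symm - e
      · refine ⟨false, fun k => ?_⟩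
        rw [hν, if_neg Bool.false_ne_true]
        rcases hk k with rfl | rfl
        · rw [if_pos rfl, sub_eq_zero.mp e]
        · rw [if_neg hne.symm]; congr 1; linear_combination h1.symm - e
    choose s hs using key
    refine (Nat.card_le_card_of_injective s fun x x' he => Subtype.ext (hinj (b.ext fun k => ?_))).trans
      (by simp)
    rw [hs, hs, he]

/-- The class equation of a group whose noncentral elements have abelian, non-normal centralisers
of index at most two in their normalisers. -/
theorem index_center_cases [Finite G] (hnc : ∃ g : G, g ∉ Subgroup.center G)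
    (hab : ∀ g : G, g ∉ Subgroup.center G →
      ∀ x ∈ Subgroup.centralizer {g}, ∀ y ∈ Subgroup.centralizer {g}, x * y = y * x)
    (hfus : ∀ g : G, g ∉ Subgroup.center G →
      Nat.card {x : G // x ∈ Subgroup.centralizer {g} ∧ ∃ y, y * g * y⁻¹ = x} ≤ 2)
    (hnn : ∀ g : G, g ∉ Subgroup.center G → ¬ (Subgroup.centralizer {g}).Normal) :
    (Subgroup.center G).index = 12 ∨ (Subgroup.center G).index = 24 ∨
      (Subgroup.center G).index = 60 := by
  classical
  cases nonempty_fintype G
  set Z := Subgroup.center G with hZdef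
  have heq : ∀ g x : G, g ∉ Z → x ∈ Subgroup.centralizer {g} → x ∉ Z →
      Subgroup.centralizer {x} = Subgroup.centralizer {g} := by
    intro g x hg hx hxZ
    refine le_antisymm (fun y hy => ?_) fun y hy => ?_
    · have hgx : g ∈ Subgroup.centralizer {x} :=
        Subgroup.mem_centralizer_singleton_iff.mpr (Subgroup.mem_centralizer_singleton_iff.mp hx).symm
      exact Subgroup.mem_centralizer_singleton_iff.mpr (hab x hxZ y hy g hgx)
    · exact Subgroup.mem_centralizer_singleton_iff.mpr (hab g hg y hy x hx)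
  let T := {A : Subgroup G // ∃ g, g ∉ Z ∧ A = Subgroup.centralizer {g}}
  have : Fintype T := Fintype.ofFinite _
  have hmap : ∀ y g : G, (Subgroup.centralizer {g}).map (MulAut.conj y).toMonoidHom
      = Subgroup.centralizer {y * g * y⁻¹} := by
    intro y g
    ext x
    rw [Subgroup.mem_map_equiv, MulAut.conj_symm_apply, Subgroup.mem_centralizer_singleton_iff,
      Subgroup.mem_centralizer_singleton_iff]
    constructor <;> intro h
    · calc x * (y * g * y⁻¹) = y * (y⁻¹ * x * y * g) * y⁻¹ := by group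
        _ = y * (g * (y⁻¹ * x * y)) * y⁻¹ := by rw [h]
        _ = y * g * y⁻¹ * x := by group
    · calc y⁻¹ * x * y * g = y⁻¹ * (x * (y * g * y⁻¹)) * y := by group
        _ = y⁻¹ * (y * g * y⁻¹ * x) * y := by rw [h]
        _ = g * (y⁻¹ * x * y) := by group
  let act : MulAction G T :=
    { smul := fun y A => ⟨A.1.map (MulAut.conj y).toMonoidHom, by
        obtain ⟨g, hg, hA⟩ := A.2
        refine ⟨y * g * y⁻¹, fun hz => hg ?_, by rw [hA, hmap]⟩
        have := (inferInstance : Z.Normal).conj_mem _ hz y⁻¹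
        simpa [mul_assoc] using this⟩
      one_smul := fun A => Subtype.ext (by
        show A.1.map (MulAut.conj (1 : G)).toMonoidHom = A.1
        ext x; simp)
      mul_smul := fun y y' A => Subtype.ext (by
        show A.1.map (MulAut.conj (y * y')).toMonoidHom
          = (A.1.map (MulAut.conj y').toMonoidHom).map (MulAut.conj y).toMonoidHom
        rw [Subgroup.map_map]; congr 1; ext x; simp [mul_assoc]) }
  have hsmul : ∀ (y : G) (A : T), (y • A : T).1 = A.1.map (MulAut.conj y).toMonoidHom :=
    fun _ _ => rfl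
  have hZA : ∀ A : T, Z ≤ A.1 := by
    rintro ⟨_, g, hg, rfl⟩ z hz
    exact Subgroup.mem_centralizer_singleton_iff.mpr (Subgroup.mem_center_iff.mp hz g).symm
  let a : T → ℕ := fun A => Z.relIndex A.1
  have hcardA : ∀ A : T, Nat.card A.1 = Nat.card Z * a A := fun A => by
    have := (Z.subgroupOf A.1).card_mul_index
    rw [Nat.card_congr (Subgroup.subgroupOfEquivOfLe (hZA A)).toEquiv] at this
    exact this.symm
  have hsplit : ∀ A : Subgroup G, Z ≤ A →
      Nat.card A = Nat.card Z + Nat.card {x : G // x ∈ A ∧ x ∉ Z} := by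
    intro A hA
    rw [← Nat.card_sum]
    exact Nat.card_congr
      { toFun := fun x => if h : (x : G) ∈ Z then Sum.inl ⟨x, h⟩ else Sum.inr ⟨x, x.2, h⟩
        invFun := Sum.elim (fun z => ⟨z, hA z.2⟩) (fun x => ⟨x, x.2.1⟩)
        left_inv := fun x => by by_cases h : (x : G) ∈ Z <;> simp [h]
        right_inv := fun s => by
          rcases s with z | x
          · simp
          · simp [x.2.2] }
  -- the noncentral elements are partitioned
  have hpart : Nat.card {x : G // x ∈ (⊤ : Subgroup G) ∧ x ∉ Z}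
      = ∑ A : T, Nat.card {x : G // x ∈ A.1 ∧ x ∉ Z} := by
    rw [← Nat.card_sigma]
    refine Nat.card_congr
      { toFun := fun x => ⟨⟨Subgroup.centralizer {x.1}, x.1, x.2.2, rfl⟩, x.1,
          Subgroup.mem_centralizer_singleton_iff.mpr rfl, x.2.2⟩
        invFun := fun s => ⟨s.2.1, trivial, s.2.2.2⟩
        left_inv := fun x => rfl
        right_inv := ?_ }
    rintro ⟨⟨A, g, hg, rfl⟩, x, hx, hxZ⟩
    refine Sigma.subtype_ext (Subtype.ext (heq g x hg hx hxZ)) rfl
  set n := Z.index with hn
  have hZpos : (Nat.card Z : ℚ) ≠ 0 := Nat.cast_ne_zero.mpr Nat.card_pos.ne'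
  have hn2 : 2 ≤ n := by
    rcases (by have := Z.index_ne_zero_of_finite; omega : n = 1 ∨ 2 ≤ n) with h | h
    · obtain ⟨g, hg⟩ := hnc
      exact absurd (Subgroup.index_eq_one.mp h ▸ Subgroup.mem_top g) hg
    · exact h
  have hcount : (n : ℚ) - 1 = ∑ A : T, ((a A : ℚ) - 1) := by
    have h1 : ∀ A : T, (Nat.card {x : G // x ∈ A.1 ∧ x ∉ Z} : ℚ)
        = (Nat.card Z : ℚ) * ((a A : ℚ) - 1) := fun A => by
      have h := hsplit A.1 (hZA A)
      rw [hcardA A] at h
      have h' : (Nat.card Z : ℚ) * (a A : ℚ) = (Nat.card Z : ℚ) +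
          (Nat.card {x : G // x ∈ A.1 ∧ x ∉ Z} : ℚ) := by exact_mod_cast h
      linear_combination -h'
    have h2 := hsplit ⊤ le_top
    rw [Subgroup.card_top, ← Z.card_mul_index, hpart] at h2
    have h2' : (Nat.card Z : ℚ) * (n : ℚ) = (Nat.card Z : ℚ) +
        ∑ A : T, (Nat.card {x : G // x ∈ A.1 ∧ x ∉ Z} : ℚ) := by exact_mod_cast h2
    rw [Finset.sum_congr rfl fun A _ => h1 A, ← Finset.mul_sum] at h2'
    exact mul_left_cancel₀ hZpos (by linear_combination h2')
  -- orbits
  let Ω := MulAction.orbitRel.Quotient G T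
  have : Fintype Ω := Fintype.ofFinite _
  have hle : ∀ A : T, A.1 ≤ MulAction.stabilizer G A := by
    intro A y hy
    refine Subtype.ext ?_
    rw [hsmul]
    obtain ⟨g, hg, hA⟩ := A.2
    rw [hA] at hy ⊢
    rw [hmap, Subgroup.mem_centralizer_singleton_iff.mp hy, mul_inv_cancel_right]
  let e : T → ℕ := fun A => A.1.relIndex (MulAction.stabilizer G A)
  have he : ∀ A : T, (e A = 1 ∨ e A = 2) ∧ e A * a A < n ∧ 2 ≤ a A ∧
      Nat.card (MulAction.orbit G A) * (e A * a A) = n := by
    intro A
    obtain ⟨g, hg, hA⟩ := A.2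
    set S := MulAction.stabilizer G A with hS
    have hpos : e A ≠ 0 := Subgroup.index_ne_zero_of_finite
    have hle2 : e A ≤ 2 := by
      refine le_trans ?_ (hfus g hg)
      have hmem : ∀ y : S, (y : G) * g * (y : G)⁻¹ ∈ Subgroup.centralizer {g} := by
        intro y
        have h1 : A.1.map (MulAut.conj (y : G)).toMonoidHom = A.1 := congrArg Subtype.val y.2
        rw [← hA, ← h1]
        refine ⟨g, ?_, by simp⟩
        rw [hA]; exact Subgroup.mem_centralizer_singleton_iff.mpr rfl
      refine Nat.card_le_card_of_injective (fun q : S ⧸ A.1.subgroupOf S =>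
        Quotient.liftOn' q (fun y => (⟨(y : G) * g * (y : G)⁻¹, hmem y, _, rfl⟩ :
          {x : G // x ∈ Subgroup.centralizer {g} ∧ ∃ y, y * g * y⁻¹ = x})) ?_) ?_
      · intro y y' hyy
        rw [QuotientGroup.leftRel_apply, Subgroup.mem_subgroupOf, hA,
          Subgroup.mem_centralizer_singleton_iff] at hyy
        apply Subtype.ext
        simp only [Subgroup.coe_mul, Subgroup.coe_inv] at hyy
        calc (y : G) * g * (y : G)⁻¹ = y * (g * ((y : G)⁻¹ * y')) * (y' : G)⁻¹ := by group
          _ = y * ((y : G)⁻¹ * y' * g) * (y' : G)⁻¹ := by rw [hyy]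
          _ = y' * g * (y' : G)⁻¹ := by group
      · intro q q' hqq
        induction q using QuotientGroup.induction_on with
        | _ y => ?_
        induction q' using QuotientGroup.induction_on with
        | _ y' => ?_
        have h1 : (y : G) * g * (y : G)⁻¹ = y' * g * (y' : G)⁻¹ := congrArg Subtype.val hqq
        rw [QuotientGroup.eq, Subgroup.mem_subgroupOf, hA, Subgroup.mem_centralizer_singleton_iff]
        simp only [Subgroup.coe_mul, Subgroup.coe_inv]
        calc (y : G)⁻¹ * y' * g = (y : G)⁻¹ * (y' * g * (y' : G)⁻¹) * y' := by group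
          _ = (y : G)⁻¹ * (y * g * (y : G)⁻¹) * y' := by rw [h1]
          _ = g * ((y : G)⁻¹ * y') := by group
    have hcardS : Nat.card S = Nat.card Z * (e A * a A) := by
      have := (A.1.subgroupOf S).card_mul_index
      rw [Nat.card_congr (Subgroup.subgroupOfEquivOfLe (hle A)).toEquiv, hcardA] at this
      rw [← this]
      show Nat.card Z * a A * A.1.relIndex S = Nat.card Z * (A.1.relIndex S * a A)
      ring
    have horb : Nat.card (MulAction.orbit G A) * (e A * a A) = n := by
      have h1 : Nat.card (MulAction.orbit G A) = S.index := by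
        rw [Nat.card_coe_set_eq]; exact (MulAction.index_stabilizer G A).symm
      have h2 := S.card_mul_index
      rw [hcardS, ← Z.card_mul_index, ← h1, mul_assoc, mul_comm (e A * a A)] at h2
      exact Nat.eq_of_mul_eq_mul_left Nat.card_pos h2
    refine ⟨by omega, ?_, ?_, horb⟩
    · refine lt_of_le_of_ne (Nat.le_of_dvd (by omega) ⟨_, (mul_comm _ _).trans horb |>.symm⟩)
        fun heq => hnn g hg ?_
      have hone : Nat.card (MulAction.orbit G A) = 1 := by
        rw [heq] at horb
        exact mul_right_cancel₀ (by omega : n ≠ 0) (horb.trans (one_mul n).symm)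
      refine ⟨fun x hx y => ?_⟩
      have hfix : y • A = A := by
        have hss : Subsingleton (MulAction.orbit G A) := (Nat.card_eq_one_iff_unique.mp hone).1
        exact congrArg Subtype.val (Subsingleton.elim
          (⟨y • A, MulAction.mem_orbit A y⟩ : MulAction.orbit G A) ⟨A, MulAction.mem_orbit_self A⟩)
      rw [← hA] at hx ⊢
      rw [← congrArg Subtype.val hfix, hsmul]
      exact ⟨x, hx, rfl⟩
    · have h0 : a A ≠ 0 := Subgroup.index_ne_zero_of_finite
      have h1 : a A ≠ 1 := fun h1 => hg (Subgroup.relIndex_eq_one.mp h1 (by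
        rw [hA]; exact Subgroup.mem_centralizer_singleton_iff.mpr rfl))
      omega
  have hconst : ∀ (y : G) (A : T), a (y • A) = a A := by
    intro y A
    have h1 := hcardA (y • A)
    rw [hsmul, Nat.card_congr (Subgroup.equivMapOfInjective _ _
      (MulAut.conj y).injective).toEquiv.symm, hcardA] at h1
    exact (Nat.eq_of_mul_eq_mul_left Nat.card_pos h1).symm
  have hsum : ∑ A : T, ((a A : ℚ) - 1)
      = (n : ℚ) * ∑ ω : Ω, partTerm (a ω.out, e ω.out) := by
    have : ∀ ω : Ω, Fintype (MulAction.orbit G ω.out) := fun ω => Fintype.ofFinite _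
    rw [Fintype.sum_equiv (MulAction.selfEquivSigmaOrbits G T) (fun A : T => ((a A : ℚ) - 1))
      (fun s => ((a s.1.out : ℚ) - 1)) (fun A => ?_), Fintype.sum_sigma, Finset.mul_sum]
    · refine Finset.sum_congr rfl fun ω _ => ?_
      show ∑ _y : MulAction.orbit G ω.out, ((a ω.out : ℚ) - 1) = _
      rw [Finset.sum_const, Finset.card_univ, nsmul_eq_mul, Fintype.card_eq_nat_card]
      obtain ⟨h1, -, h3, h4⟩ := he ω.out
      have h4' : (Nat.card (MulAction.orbit G ω.out) : ℚ) * ((e ω.out : ℚ) * (a ω.out : ℚ)) = n := by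
        exact_mod_cast h4
      have ha0 : (a ω.out : ℚ) ≠ 0 := by exact_mod_cast (by omega : a ω.out ≠ 0)
      have he0 : (e ω.out : ℚ) ≠ 0 := by exact_mod_cast (by omega : e ω.out ≠ 0)
      rw [← h4', partTerm]
      field_simp
    · have hmem : A ∈ MulAction.orbit G (Quotient.mk (MulAction.orbitRel G T) A).out := by
        rw [MulAction.mem_orbit_symm, ← MulAction.orbitRel_apply]
        exact Quotient.mk_out A
      obtain ⟨y, hy⟩ := hmem
      have hy' : y • (Quotient.mk (MulAction.orbitRel G T) A).out = A := hy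
      show ((a A : ℚ) - 1) = (a (Quotient.mk (MulAction.orbitRel G T) A).out : ℚ) - 1
      conv_lhs => rw [← hy', hconst]
  refine parts_eq hn2 (fun ω : Ω => (a ω.out, e ω.out))
    (fun ω => ⟨(he _).2.2.1, (he _).1, (he _).2.1⟩) ?_
  have hnq : (n : ℚ) ≠ 0 := by exact_mod_cast (by omega : n ≠ 0)
  rw [hsum] at hcount
  field_simp
  linarith

/-- An irreducible character of degree two of a faithful primitive action. -/
theorem index_center_of_primitive_two [Fintype G] (χ : IrrCharacter G)
    (hfaith : ∀ g : G, (χ : G → ℂ) g = (χ : G → ℂ) 1 → g = 1)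
    (h2 : charDegree (χ : G → ℂ) = 2)
    (hprim : ∀ H : Subgroup G, H ≠ ⊤ → ∀ θ : H → ℂ, IsCharacter H θ → (χ : G → ℂ) ≠ indFun H θ) :
    (Subgroup.center G).index = 12 ∨ (Subgroup.center G).index = 24 ∨
      (Subgroup.center G).index = 60 := by
  classical
  obtain ⟨d, ρ, hρ, hρχ⟩ := irr_exists_rep χ
  have hd : d = 2 := by
    have h1 := (charDegree_spec χ).2
    rw [h2] at h1
    conv_lhs at h1 => rw [← hρχ, ρ.char_one, Module.finrank_fintype_fun_eq_card, Fintype.card_fin]
    exact Nat.cast_injective h1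
  subst hd
  have hf : ∀ g, ρ g = 1 → g = 1 := fun g hg => hfaith g (by
    rw [← hρχ]; exact (rep_eq_one_iff ρ g).mp hg)
  have hab : ∀ g : G, g ∉ Subgroup.center G →
      ∀ x ∈ Subgroup.centralizer {g}, ∀ y ∈ Subgroup.centralizer {g}, x * y = y * x :=
    fun g hg => (centralizer_facts ρ hf hg).1
  refine index_center_cases ?_ hab (fun g hg => (centralizer_facts ρ hf hg).2) fun g hg hn => ?_
  · by_contra! hall
    have : IsMulCommutative G := ⟨⟨fun x y => Subgroup.mem_center_iff.mp (hall y) x⟩⟩
    have h1 := irr_apply_one_of_comm χ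
    rw [(charDegree_spec χ).2, h2] at h1
    norm_num at h1
  · -- an abelian normal centraliser has index at most two, so `χ` is induced from it
    set A := Subgroup.centralizer ({g} : Set G) with hA
    have hcA : IsMulCommutative A := ⟨⟨fun x y => Subtype.ext (hab g hg x x.2 y y.2)⟩⟩
    have hidx : A.index ≤ 2 := by
      refine le_trans ?_ (centralizer_facts ρ hf hg).2
      rw [Subgroup.index_eq_card]
      refine Nat.card_le_card_of_injective (fun q : G ⧸ A =>
        Quotient.liftOn' q (fun y => (⟨y * g * y⁻¹, hn.conj_mem g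
          (Subgroup.mem_centralizer_singleton_iff.mpr rfl) y, y, rfl⟩ :
          {x : G // x ∈ Subgroup.centralizer {g} ∧ ∃ y, y * g * y⁻¹ = x})) ?_) ?_
      · intro y y' hyy
        rw [QuotientGroup.leftRel_apply, Subgroup.mem_centralizer_singleton_iff] at hyy
        apply Subtype.ext
        calc y * g * y⁻¹ = y * (g * (y⁻¹ * y')) * y'⁻¹ := by group
          _ = y * (y⁻¹ * y' * g) * y'⁻¹ := by rw [hyy]
          _ = y' * g * y'⁻¹ := by group
      · intro q q' hqq
        induction q using QuotientGroup.induction_on with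
        | _ y => ?_
        induction q' using QuotientGroup.induction_on with
        | _ y' => ?_
        have h1 : y * g * y⁻¹ = y' * g * y'⁻¹ := congrArg Subtype.val hqq
        rw [QuotientGroup.eq, Subgroup.mem_centralizer_singleton_iff]
        calc y⁻¹ * y' * g = y⁻¹ * (y' * g * y'⁻¹) * y' := by group
          _ = y⁻¹ * (y * g * y⁻¹) * y' := by rw [h1]
          _ = g * (y⁻¹ * y') := by group
    have := Fintype.ofFinite A
    obtain ⟨l, hl⟩ : ∃ l : IrrCharacter A,
        classInner (l : A → ℂ) (fun x : A => (χ : G → ℂ) x) ≠ 0 := by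
      by_contra! h0
      have h1 := congrFun (isCharacter_eq_sum_classInner
        (isCharacter_restrict A (irr_isCharacter χ))) 1
      rw [Finset.sum_eq_zero fun φ _ => by rw [← conj_classInner, h0 φ, map_zero, zero_smul]] at h1
      simp [irr_apply_one_ne_zero χ] at h1
    have hne : classInner (χ : G → ℂ) (indFun A (l : A → ℂ)) ≠ 0 := by
      rw [classInner_indFun_right A _ _ (irr_isClassFunction χ), ← conj_classInner]
      exact fun h0 => hl (by simpa using congrArg (starRingEnd ℂ) h0)
    obtain ⟨hle, heq, -⟩ := constituent_facts χ (isCharacter_indFun A (irr_isCharacter l)) hne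
    rw [indFun_one_eq, irr_apply_one_of_comm l, mul_one, (charDegree_spec χ).2, h2,
      Complex.natCast_re, Complex.natCast_re] at hle heq
    have hidx2 : A.index = 2 := le_antisymm hidx (by exact_mod_cast hle)
    refine hprim A (fun htop => ?_) _ (irr_isCharacter l) (heq (by rw [hidx2])).symm
    rw [Subgroup.index_eq_one.mpr htop] at hidx2
    omega

end Cfsg.Agent.Lib.Chars
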