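import Mathlib

/-!
# Abelian groups of automorphisms of coprime order of an abelian group have regular orbits
-/

set_option autoImplicit false

namespace Cfsg.Agent.Lib.Chars

universe u v

theorem exists_regular_point_aux {T : Type v} [Group T] [Finite T] (n : ℕ) :
    ∀ (D : Type u) [CommGroup D] [Finite D] (φ : T →* MulAut D), Nat.card D = n →
      (∀ a b : T, φ a * φ b = φ b * φ a) → (Nat.card T).Coprime (Nat.card D) →
      ∃ d : D, ∀ t : T, φ t d = d → φ t = 1 := by
  induction n using Nat.strong_induction_on with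
  | _ n ih =>
  intro D _ _ φ hn hcomm hcop
  by_cases hsplit : ∃ (z : T) (p : ℕ), p.Prime ∧ orderOf (φ z) = p ∧ ∃ d : D, d ≠ 1 ∧ φ z d = d
  · obtain ⟨z, p, hp, hz, d₀, hd₀, hfix⟩ := hsplit
    let C : Subgroup D :=
      { carrier := {d | φ z d = d}
        one_mem' := map_one _
        mul_mem' := fun {a b} ha hb => by
          show φ z (a * b) = a * b
          rw [map_mul, ha, hb]
        inv_mem' := fun {a} ha => by
          show φ z a⁻¹ = a⁻¹
          rw [map_inv, ha] }
    let N : D →* D :=
      { toFun := fun d => ∏ i ∈ Finset.range p, (φ z ^ i) d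
        map_one' := by simp
        map_mul' := fun a b => by simp [Finset.prod_mul_distrib] }
    let E : Subgroup D := N.ker
    have hpD : p.Coprime (Nat.card D) :=
      Nat.Coprime.coprime_dvd_left (hz ▸ (orderOf_map_dvd φ z).trans (orderOf_dvd_natCard z)) hcop
    have hzp : φ z ^ p = 1 := hz ▸ pow_orderOf_eq_one _
    have hNC : ∀ d : D, N d ∈ C := by
      intro d
      show φ z (∏ i ∈ Finset.range p, (φ z ^ i) d) = ∏ i ∈ Finset.range p, (φ z ^ i) d
      have h1 : φ z (∏ i ∈ Finset.range p, (φ z ^ i) d)
          = ∏ i ∈ Finset.range p, (φ z ^ (i + 1)) d := by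
        rw [map_prod]
        exact Finset.prod_congr rfl fun i _ => by rw [pow_succ', MulAut.mul_apply]
      rw [h1]
      have h2 := Finset.prod_range_succ' (fun i => (φ z ^ i) d) p
      rw [Finset.prod_range_succ, hzp, pow_zero] at h2
      exact (mul_right_cancel h2).symm
    have hNfix : ∀ d ∈ C, N d = d ^ p := by
      intro d hd
      show ∏ i ∈ Finset.range p, (φ z ^ i) d = d ^ p
      rw [Finset.prod_congr rfl (g := fun _ => d) fun i hi => ?_, Finset.prod_const, Finset.card_range]
      clear hi
      induction i with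
      | zero => simp
      | succ i ih => rw [pow_succ', MulAut.mul_apply, ih]; exact hd
    have hdisj : ∀ d : D, d ∈ C → d ∈ E → d = 1 := by
      intro d hd he
      have h1 : d ^ p = 1 := by rw [← hNfix d hd]; exact he
      exact orderOf_eq_one_iff.mp (Nat.eq_one_of_dvd_coprimes hpD (orderOf_dvd_of_pow_eq_one h1)
        (orderOf_dvd_natCard d))
    have hdec : ∀ d : D, ∃ c ∈ C, ∃ e ∈ E, d = c * e := by
      intro d
      let r := (powCoprime (G := D) hpD.symm).symm
      have hr : ∀ x, (r x) ^ p = x := fun x => (powCoprime (G := D) hpD.symm).apply_symm_apply x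
      have hrC : r (N d) ∈ C := by
        show φ z (r (N d)) = r (N d)
        refine (powCoprime (G := D) hpD.symm).injective ?_
        show φ z (r (N d)) ^ p = r (N d) ^ p
        rw [← map_pow, hr]
        exact hNC d
      refine ⟨r (N d), hrC, (r (N d))⁻¹ * d, ?_, (mul_inv_cancel_left _ _).symm⟩
      show N _ = 1
      rw [map_mul, map_inv, hNfix _ hrC, hr, inv_mul_cancel]
    have hzc : ∀ (t : T) (i : ℕ) (d : D), (φ z ^ i) (φ t d) = φ t ((φ z ^ i) d) := by
      intro t i d
      have h1 : Commute (φ z ^ i) (φ t) := Commute.pow_left (hcomm z t) i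
      exact DFunLike.congr_fun h1.eq d
    have hCinv : ∀ (t : T) (d : D), d ∈ C → φ t d ∈ C := by
      intro t d hd
      show φ z (φ t d) = φ t d
      have h1 := hzc t 1 d
      rw [pow_one] at h1
      rw [h1, hd]
    have hEinv : ∀ (t : T) (d : D), d ∈ E → φ t d ∈ E := by
      intro t d hd
      show ∏ i ∈ Finset.range p, (φ z ^ i) (φ t d) = 1
      rw [Finset.prod_congr rfl (fun i _ => hzc t i d), ← map_prod]
      have : ∏ i ∈ Finset.range p, (φ z ^ i) d = 1 := hd
      rw [this, map_one]
    have hfin : ∀ (S : Subgroup D), S ≠ ⊤ → (∀ (t : T) (d : D), d ∈ S → φ t d ∈ S) →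
        ∃ s ∈ S, ∀ t : T, φ t s = s → ∀ d ∈ S, φ t d = d := by
      intro S hS hinv
      have hinv' : ∀ (t : T), S.map (φ t).toMonoidHom = S := by
        intro t
        refine le_antisymm ?_ fun d hd => ⟨φ t⁻¹ d, hinv t⁻¹ d hd, ?_⟩
        · rintro _ ⟨d, hd, rfl⟩
          exact hinv t d hd
        · show φ t (φ t⁻¹ d) = d
          rw [← MulAut.mul_apply, ← map_mul, mul_inv_cancel, map_one, MulAut.one_apply]
      let ψ : T →* MulAut S :=
        { toFun := fun t =>
            { toFun := fun s => ⟨φ t s, hinv t s s.2⟩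
              invFun := fun s => ⟨φ t⁻¹ s, hinv t⁻¹ s s.2⟩
              left_inv := fun s => Subtype.ext (by simp)
              right_inv := fun s => Subtype.ext (by simp)
              map_mul' := fun a b => Subtype.ext (map_mul (φ t) _ _) }
          map_one' := MulEquiv.ext fun s => Subtype.ext (by simp)
          map_mul' := fun a b => MulEquiv.ext fun s => Subtype.ext (by simp) }
      have hψ : ∀ t (s : S), ((ψ t s : S) : D) = φ t s := fun _ _ => rfl
      have hlt : Nat.card S < n := hn ▸ lt_of_le_of_ne (Subgroup.card_le_card_group S)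
        fun h => hS (Subgroup.eq_top_of_card_eq S h)
      obtain ⟨s, hs⟩ := ih _ hlt S ψ rfl
        (fun a b => MulEquiv.ext fun s => Subtype.ext (by
          rw [MulAut.mul_apply, MulAut.mul_apply, hψ, hψ, hψ, hψ]
          exact DFunLike.congr_fun (hcomm a b) (s : D)))
        (hcop.coprime_dvd_right (Subgroup.card_subgroup_dvd_card S))
      refine ⟨s, s.2, fun t ht d hd => ?_⟩
      have := hs t (Subtype.ext ht)
      exact congrArg (fun f : MulAut S => ((f ⟨d, hd⟩ : S) : D)) this
    have hCtop : C ≠ ⊤ := by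
      intro h
      refine hp.ne_one ?_
      rw [← hz, orderOf_eq_one_iff]
      refine MulEquiv.ext fun d => ?_
      have : d ∈ C := h ▸ Subgroup.mem_top d
      exact this
    have hEtop : E ≠ ⊤ := fun h => hd₀ (hdisj d₀ hfix (h ▸ Subgroup.mem_top d₀))
    obtain ⟨c, hc, hc'⟩ := hfin C hCtop hCinv
    obtain ⟨e, he, he'⟩ := hfin E hEtop hEinv
    refine ⟨c * e, fun t ht => MulEquiv.ext fun d => ?_⟩
    rw [map_mul] at ht
    have h1 : c⁻¹ * φ t c = e * (φ t e)⁻¹ := by
      rw [eq_mul_inv_iff_mul_eq, mul_assoc, ht, inv_mul_cancel_left]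
    have h2 := hdisj _ (C.mul_mem (C.inv_mem hc) (hCinv t c hc))
      (h1 ▸ E.mul_mem he (E.inv_mem (hEinv t e he)))
    rw [inv_mul_eq_one] at h2
    rw [h2.symm, mul_right_inj] at ht
    obtain ⟨x, hx, y, hy, rfl⟩ := hdec d
    rw [map_mul, hc' t h2.symm x hx, he' t ht y hy, MulAut.one_apply]
  · push Not at hsplit
    by_cases hD : ∃ d : D, d ≠ 1
    · obtain ⟨d, hd⟩ := hD
      refine ⟨d, fun t ht => ?_⟩
      by_contra hne
      obtain ⟨p, hp, hpd⟩ := Nat.exists_prime_and_dvd (n := orderOf (φ t))
        fun h => hne (orderOf_eq_one_iff.mp h)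
      have hord : orderOf (φ (t ^ (orderOf (φ t) / p))) = p := by
        rw [map_pow]
        exact orderOf_pow_orderOf_div (Nat.ne_of_gt (Nat.pos_of_ne_zero (by
          intro h0
          have := orderOf_map_dvd φ t
          rw [h0, zero_dvd_iff] at this
          exact (orderOf_pos t).ne' this))) hpd
      refine hsplit _ p hp hord d hd ?_
      rw [map_pow]
      clear hord
      induction (orderOf (φ t) / p) with
      | zero => simp
      | succ i ih => rw [pow_succ', MulAut.mul_apply, ih, ht]
    · push Not at hD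
      exact ⟨1, fun t _ => MulEquiv.ext fun d => by rw [hD d, map_one, MulAut.one_apply]⟩

/-- An abelian group of automorphisms of coprime order of an abelian group has a regular orbit. -/
theorem exists_regular_point {T : Type v} [Group T] [Finite T] {D : Type u} [CommGroup D] [Finite D]
    (φ : T →* MulAut D) (hcomm : ∀ a b : T, φ a * φ b = φ b * φ a)
    (hcop : (Nat.card T).Coprime (Nat.card D)) :
    ∃ d : D, ∀ t : T, φ t d = d → φ t = 1 :=
  exists_regular_point_aux _ D φ rfl hcomm hcop

end Cfsg.Agent.Lib.Chars
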